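import Cfsg.Agent.KSG55.Sp.Tmove

set_option autoImplicit false

/-! The cells `P w P` exhaust the group. -/

namespace Cfsg.Agent.KSG55.Sp

open Matrix Cfsg.Agent.KSG55.Lin

variable {F : Type*} [Field F] {m : ℕ}

local notation "GLn" => GL (Fin (m + 2)) F
local notation "Vn" => Fin (m + 2) → F
local notation "Mn" => Matrix (Fin (m + 2)) (Fin (m + 2)) F

theorem rk1_row_mem {H : Subgroup GLn} (i : Fin (m + 2)) (w : Vn) (hw : w ⬝ᵥ bv i = 0)
    (he : ∀ (j : Fin (m + 2)) (h : i ≠ j), w j ≠ 0 → egl h (w j) ∈ H) : rk1 (bv i) w hw ∈ H := by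
  suffices key : ∀ (s : Finset (Fin (m + 2))) (w : Vn) (hw : w ⬝ᵥ bv i = 0), (∀ j, j ∉ s → w j = 0) →
      (∀ (j : Fin (m + 2)) (h : i ≠ j), w j ≠ 0 → egl h (w j) ∈ H) → rk1 (bv i) w hw ∈ H from
    key Finset.univ w hw (by simp) he
  intro s
  induction s using Finset.induction_on with
  | empty =>
    intro w hw hs _
    have hw0 : w = 0 := funext fun j => hs j (by simp)
    have : rk1 (bv i) w hw = 1 := Units.ext (by rw [rk1_coe, hw0, vecMulVec_zero, add_zero, Units.val_one])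
    rw [this]; exact one_mem _
  | @insert j t hj ih =>
    intro w hw hs he
    by_cases hwj : w j = 0
    · refine ih w hw (fun k hk => ?_) he
      by_cases e : k = j
      · rw [e, hwj]
      · exact hs k (by simp [e, hk])
    have hji : i ≠ j := fun e => hwj (by rw [← e]; simpa [bv] using hw)
    have h1 : Function.update w j 0 ⬝ᵥ bv i = 0 := by
      simpa [bv, Function.update_of_ne hji] using hw
    have h2 : (Pi.single j (w j) : Vn) ⬝ᵥ bv i = 0 := by simp [bv, hji]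
    have e := rk1_mul_right (bv i) (Function.update w j 0) (Pi.single j (w j)) h1 h2
    have hsum : Function.update w j 0 + Pi.single j (w j) = w := by
      funext k; by_cases hk : k = j
      · subst hk; simp
      · simp [hk]
    have e2 : rk1 (bv i) (Pi.single j (w j)) h2 = egl hji (w j) := by
      apply Units.ext
      rw [rk1_coe, egl_coe, Matrix.transvection]
      congr 1
      ext a b
      simp [vecMulVec_apply, Pi.single_apply, Matrix.single_apply, eq_comm, ite_and]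
      split_ifs <;> rfl
    simp only [hsum] at e
    rw [← e, e2]
    refine mul_mem (ih _ h1 (fun k hk => ?_) fun k hk hne => ?_) (he j hji hwj)
    · by_cases e : k = j
      · subst e; simp
      · rw [Function.update_of_ne e]; exact hs k (by simp [e, hk])
    · by_cases e : k = j
      · subst e; simp at hne
      · simp only [Function.update_of_ne e] at hne ⊢; exact he k hk hne

theorem egl_eq_Y {i j : Fin (m + 2)} (h : i ≠ j) (c : F) :
    egl h c = Y j (Pi.single i c) (by simp [h, Ne.symm h]) := rfl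

namespace Glue

variable {G : Type*} [Group G] (D : Glue F m G) [Finite F]

/-- The parabolic. -/
def P : Subgroup G where
  carrier := {g | ∃ (A : GLn) (S : Mn), Sᵀ = S ∧ g = D.Γ A * D.σ S}
  one_mem' := ⟨1, 0, by simp, by rw [map_one, σ_zero, one_mul]⟩
  mul_mem' := by
    rintro _ _ ⟨A, S, hS, rfl⟩ ⟨A', S', hS', rfl⟩
    refine ⟨A * A', ((A'⁻¹ : GLn) : Mn) * S * ((A'⁻¹ : GLn) : Mn)ᵀ + S', ?_, ?_⟩
    · rw [transpose_add, transpose_mul, transpose_mul, transpose_transpose, hS, hS', Matrix.mul_assoc]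
    · rw [map_mul, σ_add, ← D.σ_conj _ hS, map_inv]; group
  inv_mem' := by
    rintro _ ⟨A, S, hS, rfl⟩
    refine ⟨A⁻¹, (A : Mn) * (-S) * (A : Mn)ᵀ, ?_, ?_⟩
    · rw [transpose_mul, transpose_mul, transpose_transpose, transpose_neg, hS, Matrix.mul_assoc]
    · rw [← D.σ_conj _ (by rw [transpose_neg, hS]), σ_neg, map_inv]; group

theorem Γ_mem (A : GLn) : D.Γ A ∈ D.P := ⟨A, 0, by simp, by rw [σ_zero, mul_one]⟩

theorem σ_mem {S : Mn} (hS : Sᵀ = S) : D.σ S ∈ D.P := ⟨1, S, hS, by rw [map_one, one_mul]⟩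

theorem q_memP (v : Vn) (t : F) : D.q v t ∈ D.P := by
  rw [← D.σ_sq]; exact D.σ_mem (by rw [transpose_smul, transpose_vecMulVec])

/-- The product of the Weyl elements over a set. -/
noncomputable def W (I : Finset (Fin (m + 2))) : G :=
  I.noncommProd D.Ti fun i _ j _ _ => D.Ti_comm i j

theorem W_empty : D.W ∅ = 1 := Finset.noncommProd_empty _ _

theorem W_insert {I : Finset (Fin (m + 2))} {i : Fin (m + 2)} (h : i ∉ I) :
    D.W (insert i I) = D.W I * D.Ti i := Finset.noncommProd_insert_of_notMem' _ _ _ _ h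

theorem W_erase {I : Finset (Fin (m + 2))} {i : Fin (m + 2)} (h : i ∈ I) :
    D.W I = D.W (I.erase i) * D.Ti i := by
  conv_lhs => rw [← Finset.insert_erase h]
  exact D.W_insert (Finset.notMem_erase i I)

theorem commute_W {I : Finset (Fin (m + 2))} {x : G} (h : ∀ i ∈ I, Commute x (D.Ti i)) : Commute x (D.W I) :=
  Finset.noncommProd_commute _ _ _ _ h

theorem conj_egl_mem {I : Finset (Fin (m + 2))} {i j : Fin (m + 2)} (hij : i ≠ j) (c : F)
    (hIj : j ∉ I → i ∉ I) : D.W I * D.Γ (egl hij c) * (D.W I)⁻¹ ∈ D.P := by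
  have hfix : ∀ k, k ≠ i → k ≠ j → FixAt k (egl hij c) := fun k hki hkj =>
    fixAt_rk1 _ (by simp [hki]) (by simp [bv, hkj])
  by_cases hj : j ∈ I
  · have e : D.Ti j * D.Γ (egl hij c) * (D.Ti j)⁻¹ = D.σ (-sy (Pi.single i c) (bv j)) := by
      rw [egl_eq_Y]; exact D.Ti_Y j _
    have hcomm : ∀ k, k ≠ i → k ≠ j → Commute (D.Ti k) (D.σ (-sy (Pi.single i c) (bv j))) := fun k hki hkj =>
      D.Ti_comm_σ (fun l => by simp [sy, vecMulVec_apply, bv, hki, hkj])
        (fun l => by simp [sy, vecMulVec_apply, bv, hki, hkj])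
    rw [D.W_erase hj, show ∀ a b x : G, a * b * x * (a * b)⁻¹ = a * (b * x * b⁻¹) * a⁻¹ from
      fun a b x => by group, e]
    by_cases hi : i ∈ I
    · have hi' : i ∈ I.erase j := Finset.mem_erase.mpr ⟨hij, hi⟩
      have hw : (Pi.single j c : Vn) i = 0 := by simp [hij]
      have e2 : D.Ti i * D.σ (-sy (Pi.single i c) (bv j)) * (D.Ti i)⁻¹ =
          D.Γ (Y i (-(Pi.single j c : Vn)) (by simp [hij])) := by
        rw [← D.Ti_Y' i hw]
        congr 3
        ext a b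
        simp [sy, vecMulVec_apply, bv, Pi.single_apply]
        split_ifs <;> simp
      rw [D.W_erase hi', show ∀ a b x : G, a * b * x * (a * b)⁻¹ = a * (b * x * b⁻¹) * a⁻¹ from
        fun a b x => by group, e2]
      have hc : Commute (D.Γ (Y i (-(Pi.single j c : Vn)) (by simp [hij]))) (D.W ((I.erase j).erase i)) :=
        D.commute_W fun k hk => by
          have hki := Finset.ne_of_mem_erase hk
          have hkj := Finset.ne_of_mem_erase (Finset.mem_of_mem_erase hk)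
          exact D.comm_Ti (fixAt_rk1 _ (by simp [hkj]) (by simp [bv, hki]))
      rw [← hc.eq, mul_inv_cancel_right]
      exact D.Γ_mem _
    · have hc : Commute (D.σ (-sy (Pi.single i c) (bv j))) (D.W (I.erase j)) :=
        D.commute_W fun k hk =>
          (hcomm k (fun e => hi (e ▸ Finset.mem_of_mem_erase hk)) (Finset.ne_of_mem_erase hk)).symm
      rw [← hc.eq, mul_inv_cancel_right]
      exact D.σ_mem (by rw [transpose_neg, sy_transpose])
  · have hc : Commute (D.Γ (egl hij c)) (D.W I) :=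
      D.commute_W fun k hk => D.comm_Ti (hfix k (fun e => hIj hj (e ▸ hk)) (fun e => hj (e ▸ hk)))
    rw [← hc.eq, mul_inv_cancel_right]
    exact D.Γ_mem _

/-- The union of the cells. -/
def Ω : Set G := {g | ∃ p ∈ D.P, ∃ I, ∃ p' ∈ D.P, g = p * D.W I * p'}

theorem Ω_mul {g : G} (hg : g ∈ D.Ω) {p : G} (hp : p ∈ D.P) : g * p ∈ D.Ω := by
  obtain ⟨p₁, h₁, I, p₂, h₂, rfl⟩ := hg
  exact ⟨p₁, h₁, I, p₂ * p, mul_mem h₂ hp, by group⟩

theorem Ω_left {g : G} (hg : g ∈ D.Ω) {p : G} (hp : p ∈ D.P) : p * g ∈ D.Ω := by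
  obtain ⟨p₁, h₁, I, p₂, h₂, rfl⟩ := hg
  exact ⟨p * p₁, mul_mem hp h₁, I, p₂, h₂, by group⟩

theorem cell (I : Finset (Fin (m + 2))) (i : Fin (m + 2)) (c : F) :
    D.W I * D.q (bv i) c * D.Ti i ∈ D.Ω := by
  by_cases hi : i ∈ I
  · set s : GLn := pgl (Equiv.swap 0 i)
    have hq : D.q (bv i) c = D.Γ s * D.κ (mU c) * (D.Γ s)⁻¹ := D.q_col (by rw [pgl_bv, Equiv.swap_apply_left]) c
    rcases eq_or_ne c 0 with rfl | hc
    · rw [q_at0, mul_one, D.W_erase hi, mul_assoc, Ti_sq]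
      exact ⟨1, one_mem _, I.erase i, _, D.Γ_mem _, (by rw [one_mul])⟩
    -- inside the copy of `SL₂`
    set x := D.q (bv i) (-c⁻¹)
    set hh := D.Γ (dgl i (Units.mk0 c hc)⁻¹)
    have hx : x = D.Γ s * D.κ (mU (-c⁻¹)) * (D.Γ s)⁻¹ := D.q_col (by rw [pgl_bv, Equiv.swap_apply_left]) _
    have hd : ∀ d, D.Γ (dgl i d) = D.Γ s * D.κ (mH d) * (D.Γ s)⁻¹ := fun d => by
      rw [← D.Γ_dgl0, Γ_conj, pgl_conj_dgl, Equiv.swap_apply_left]
    have key : D.Ti i * D.q (bv i) c * D.Ti i = x * hh * D.Ti i * x * D.Γ (dgl i (-1)) := by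
      rw [hq, hx, show hh = _ from hd _, hd, Ti, ← mT_sq, map_mul]
      have e : D.κ mT * D.κ (mU c) * (D.κ mT)⁻¹ =
          D.κ (mU (-c⁻¹)) * D.κ (mH (Units.mk0 c hc)⁻¹) * D.κ mT * D.κ (mU (-c⁻¹)) := by
        rw [← map_inv, ← map_mul, ← map_mul, mT_mU hc, map_mul, map_mul, map_mul]
      calc D.Γ s * D.κ mT * (D.Γ s)⁻¹ * (D.Γ s * D.κ (mU c) * (D.Γ s)⁻¹) * (D.Γ s * D.κ mT * (D.Γ s)⁻¹)
          = D.Γ s * (D.κ mT * D.κ (mU c) * (D.κ mT)⁻¹ * (D.κ mT * D.κ mT)) * (D.Γ s)⁻¹ := by group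
        _ = _ := by rw [e]; simp only [s]; group
    have hcx : Commute (x * hh) (D.W (I.erase i)) := by
      refine D.commute_W fun k hk => ?_
      have hki := Finset.ne_of_mem_erase hk
      exact ((D.Ti_comm_q (i := k) (by simp [bv, hki]) _).symm).mul_left (D.comm_Ti (fixAt_dgl hki _))
    rw [D.W_erase hi, show ∀ a b u v : G, a * b * u * v = a * (b * u * v) from fun a b u v => by group, key,
      show ∀ a b u v : G, a * (b * hh * u * b * v) = (a * (b * hh)) * u * (b * v) from fun a b u v => by group,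
      ← hcx.eq, mul_assoc (x * hh), ← D.W_erase hi]
    exact ⟨_, mul_mem (D.q_memP _ _) (D.Γ_mem _), I, _, mul_mem (D.q_memP _ _) (D.Γ_mem _), rfl⟩
  · have hc : Commute (D.q (bv i) c) (D.W I) := D.commute_W fun k hk =>
      (D.Ti_comm_q (i := k) (by simp [bv, show k ≠ i from fun e => hi (e ▸ hk)]) _).symm
    rw [← hc.eq, mul_assoc, ← D.W_insert hi]
    exact ⟨_, D.q_memP _ _, _, 1, one_mem _, (by rw [mul_one])⟩

theorem T_conj_mem {S : Mn} (hS : Sᵀ = S) (h00 : S 0 0 = 0) :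
    (D.κ mT)⁻¹ * D.σ S * D.κ mT ∈ D.P := by
  set w : Vn := Function.update (fun i => S i 0) 0 0
  have hw : w 0 = 0 := by simp [w]
  set S1 := S - sy w (bv 0)
  have hs : ∀ a b, S b a = S a b := fun a b => by
    have := congrFun (congrFun hS a) b
    simpa [Matrix.transpose_apply] using this
  have hrow : ∀ j, S1 0 j = 0 := fun j => by
    by_cases hj : j = 0
    · subst hj; simp [S1, sy, vecMulVec_apply, bv, hw, h00]
    · simp [S1, sy, vecMulVec_apply, bv, hw, w, hj, hs 0 j]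
  have hsym : ∀ a b, S1 b a = S1 a b := fun a b => by
    simp [S1, sy, vecMulVec_apply, hs a b]; ring
  have e : D.σ S = D.σ S1 * D.σ (-sy (-w) (bv 0)) := by
    rw [← σ_add]; congr 1; simp [S1, sy_neg]
  have hS1 := D.Ti_comm_σ (i := 0) hrow fun j => by rw [hsym]; exact hrow j
  rw [Ti_zero] at hS1
  rw [e, ← D.Ti_Y 0 (w := -w) (by simp [hw]), Ti_zero]
  have : (D.κ mT)⁻¹ * (D.σ S1 * (D.κ mT * D.Γ (Y 0 (-w) (by simp [hw])) * (D.κ mT)⁻¹)) * D.κ mT =
      ((D.κ mT)⁻¹ * D.σ S1 * D.κ mT) * D.Γ (Y 0 (-w) (by simp [hw])) := by group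
  rw [this, mul_assoc _ (D.σ S1), ← hS1.eq, inv_mul_cancel_left]
  refine mul_mem (D.σ_mem ?_) (D.Γ_mem _)
  ext a b; simp [hsym a b]

theorem T_conj_Γ {B : GLn} {d : F} (hB : bv 0 ᵥ* (B : Mn) = d • bv 0) :
    (D.κ mT)⁻¹ * D.Γ B * D.κ mT ∈ D.P := by
  have hB0 : ∀ j, (B : Mn) 0 j = if j = 0 then d else 0 := fun j => by
    have := congrFun hB j
    rw [single_one_vecMul] at this
    simpa [bv, Pi.single_apply] using this
  have hd : d ≠ 0 := by
    intro h0
    have h1 : bv 0 ᵥ* (B : Mn) = 0 := by rw [hB, h0, zero_smul]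
    have := congrArg (fun v => v ᵥ* ((B⁻¹ : GLn) : Mn)) h1
    simp only [vecMul_vecMul, ← Units.val_mul, mul_inv_cancel, Units.val_one, vecMul_one, zero_vecMul] at this
    simpa [bv] using congrFun this 0
  set w : Vn := Function.update (fun i => (B : Mn) i 0 / d) 0 0
  have hw : w 0 = 0 := by simp [w]
  set D0 := dgl (0 : Fin (m + 2)) (Units.mk0 d hd)
  set A := D0⁻¹ * (Y 0 (-w) (by simp [hw]) * B)
  have hAe : B = Y 0 w hw * D0 * A := by
    have : Y (F := F) 0 w hw * Y 0 (-w) (by simp [hw]) = 1 := by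
      apply Units.ext
      rw [Units.val_mul, Y, Y, rk1_coe, rk1_coe, mul_add, mul_one, add_mul, one_mul, vecMulVec_mul_vecMulVec,
        neg_vecMulVec, show bv 0 ⬝ᵥ -w = 0 by simp [bv, hw], zero_smul, vecMulVec_zero, add_zero, Units.val_one]
      abel
    simp only [A, mul_assoc, mul_inv_cancel_left]
    rw [← mul_assoc, this, one_mul]
  have hcol : (B : Mn) *ᵥ bv 0 = d • (bv 0 + w) := by
    funext i
    rw [mulVec_single_one]
    show (B : Mn) i 0 = _
    by_cases hi : i = 0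
    · subst hi; simp [hB0, bv, hw]
    · simp [w, bv, hi]; field_simp
  have hA : FixAt 0 A := by
    have hinv : ∀ v : Vn, ((D0⁻¹ : GLn) : Mn) *ᵥ v = Function.update v 0 (d⁻¹ * v 0) := fun v => by
      rw [← map_inv, dgl_mulVec]; simp
    have hinvR : ∀ v : Vn, v ᵥ* ((D0⁻¹ : GLn) : Mn) = Function.update v 0 (d⁻¹ * v 0) := fun v => by
      rw [← mulVec_transpose, ← map_inv, dgl_transpose, dgl_mulVec]; simp
    constructor
    · simp only [A, Units.val_mul, ← mulVec_mulVec, hcol, mulVec_smul, mulVec_add]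
      rw [Y, rk1_mulVec, rk1_mulVec]
      simp only [hinv, mulVec_add, mulVec_smul]
      funext i
      by_cases hi : i = 0
      · subst hi; simp [bv, hw, hd]
      · simp [bv, hi, hw]
    · simp only [A, Units.val_mul, ← vecMul_vecMul, hinvR]
      have e1 : Function.update (bv 0 : Vn) 0 (d⁻¹ * (bv 0 : Vn) 0) = d⁻¹ • bv 0 := by
        funext i; by_cases hi : i = 0
        · subst hi; simp [bv]
        · simp [bv, hi]
      rw [e1, smul_vecMul, smul_vecMul, Y, rk1_coe, vecMul_add, vecMul_one, vecMul_vecMulVec]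
      simp only [bv, single_one_dotProduct, Pi.neg_apply, hw, neg_zero, zero_smul, add_zero]
      rw [hB, smul_smul, inv_mul_cancel₀ hd, one_smul]
  rw [hAe, map_mul, map_mul, show (D.κ mT)⁻¹ * (D.Γ (Y 0 w hw) * D.Γ D0 * D.Γ A) * D.κ mT =
    ((D.κ mT)⁻¹ * D.Γ (Y 0 w hw) * D.κ mT) * ((D.κ mT)⁻¹ * D.Γ D0 * D.κ mT) * ((D.κ mT)⁻¹ * (D.Γ A * D.κ mT)) by
      group, (D.comm_T hA.1 hA.2).eq, inv_mul_cancel_left]
  refine mul_mem (mul_mem ?_ ?_) (D.Γ_mem _)
  · have h := D.Ti_Y 0 hw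
    rw [Ti_zero] at h
    have e : (D.κ mT)⁻¹ * D.Γ (Y 0 w hw) * D.κ mT =
        (D.κ mT * D.κ mT)⁻¹ * (D.κ mT * D.Γ (Y 0 w hw) * (D.κ mT)⁻¹) * (D.κ mT * D.κ mT) := by group
    rw [e, h, ← map_mul, mT_sq, ← D.Γ_dgl0]
    exact mul_mem (mul_mem (inv_mem (D.Γ_mem _)) (D.σ_mem (by rw [transpose_neg, sy_transpose]))) (D.Γ_mem _)
  · rw [D.Γ_dgl0]
    have : (mT : SpecialLinearGroup (Fin 2) F)⁻¹ * mH (Units.mk0 d hd) * mT = mH (Units.mk0 d hd)⁻¹ := by
      have h := mT_conj (Units.mk0 d hd)⁻¹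
      rw [mH_inv, inv_inv] at h
      rw [← h]; group
    rw [← map_inv, ← map_mul, ← map_mul, this, ← D.Γ_dgl0]
    exact D.Γ_mem _

theorem step {g : G} (hg : g ∈ D.Ω) : g * D.κ mT ∈ D.Ω := by
  obtain ⟨p₁, h₁, I, _, ⟨A, S, hS, rfl⟩, rfl⟩ := hg
  rw [show p₁ * D.W I * (D.Γ A * D.σ S) * D.κ mT = p₁ * (D.W I * (D.Γ A * D.σ S) * D.κ mT) by group]
  refine D.Ω_left ?_ h₁
  -- choice of the pivot
  set r : Vn := bv 0 ᵥ* ((A⁻¹ : GLn) : Mn) with hr
  have hrA : r ᵥ* (A : Mn) = bv 0 := by rw [hr, vecMul_vecMul, ← Units.val_mul, inv_mul_cancel, Units.val_one, vecMul_one]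
  obtain ⟨k, hk, hkI⟩ : ∃ k, r k ≠ 0 ∧ ∀ j, r j ≠ 0 → j ∉ I → k ∉ I := by
    by_cases h : ∃ k, r k ≠ 0 ∧ k ∉ I
    · obtain ⟨k, hk, hkI⟩ := h; exact ⟨k, hk, fun _ _ _ => hkI⟩
    · push Not at h
      have hr0 : r ≠ 0 := fun e => by
        rw [e, zero_vecMul] at hrA
        simpa [bv] using congrFun hrA 0
      obtain ⟨k, hk⟩ := Function.ne_iff.mp hr0
      exact ⟨k, hk, fun j hj hjI => absurd (h j hj) hjI⟩
  set u : Vn := Function.update (fun j => -(r j / r k)) k 0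
  have hu : u ⬝ᵥ bv k = 0 := by simp [u, bv]
  set B := rk1 (bv k) u hu with hBdef
  have hBmem : D.W I * D.Γ B * (D.W I)⁻¹ ∈ D.P :=
    rk1_row_mem (H := (D.P.comap (MulAut.conj (D.W I)).toMonoidHom).comap D.Γ) k u hu fun j hkj hj => by
      show D.W I * D.Γ (egl hkj (u j)) * (D.W I)⁻¹ ∈ D.P
      refine D.conj_egl_mem hkj _ fun hjI => hkI j (fun e => hj ?_) hjI
      simp [u, hkj.symm, e]
  have hrB : r ᵥ* (B : Mn) = r k • bv k := by
    rw [hBdef, rk1_coe, vecMul_add, vecMul_one, vecMul_vecMulVec]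
    funext j
    by_cases hj : j = k
    · subst hj; simp [u, bv]
    · simp [u, bv, hj]; field_simp; ring
  set Pk : GLn := pgl (Equiv.swap 0 k) with hPk
  have hPkv : ∀ v : Vn, v ᵥ* (Pk : Mn) = (Pk : Mn) *ᵥ v := fun v => by
    rw [← mulVec_transpose, hPk, pgl_transpose, Equiv.swap_inv]
  set B' := Pk⁻¹ * B⁻¹ * A with hB'
  have hB'row : bv 0 ᵥ* (B' : Mn) = (r k)⁻¹ • bv 0 := by
    have h1 : bv 0 ᵥ* ((B'⁻¹ : GLn) : Mn) = r k • bv 0 := by
      rw [hB', _root_.mul_inv_rev, _root_.mul_inv_rev, inv_inv, inv_inv, Units.val_mul, Units.val_mul,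
        ← vecMul_vecMul, ← vecMul_vecMul, ← hr, hrB, smul_vecMul, hPkv, hPk, pgl_bv, Equiv.swap_apply_right]
    have h2 : (r k • bv 0 : Vn) ᵥ* (B' : Mn) = bv 0 := by
      rw [← h1, vecMul_vecMul, ← Units.val_mul, inv_mul_cancel, Units.val_one, vecMul_one]
    rw [smul_vecMul] at h2
    rw [← smul_left_cancel_iff (Units.mk0 (r k) hk)]
    show r k • (bv 0 ᵥ* (B' : Mn)) = r k • ((r k)⁻¹ • bv 0)
    rw [h2, smul_smul, mul_inv_cancel₀ hk, one_smul]
  have hA : D.Γ A = D.Γ B * D.Γ Pk * D.Γ B' := by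
    rw [← map_mul, ← map_mul]; congr 1; rw [hB']; group
  -- the unipotent part
  set S' := (B' : Mn) * S * (B' : Mn)ᵀ with hS'
  have hS's : S'ᵀ = S' := by rw [hS', transpose_mul, transpose_mul, transpose_transpose, hS, Matrix.mul_assoc]
  set c := S' 0 0
  set R := S' - Matrix.single 0 0 c
  have hRs : Rᵀ = R := by rw [transpose_sub, hS's, transpose_single]
  have hR0 : R 0 0 = 0 := by simp [R, c]
  have hsplit : D.σ S' = D.q (bv 0) c * D.σ R := by
    rw [← D.σ_diag (bv 0) 0 rfl c, ← σ_add]; congr 1; simp [R]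
  have hmove : D.Γ B' * D.σ S = D.q (bv 0) c * D.σ R * D.Γ B' := by
    rw [← hsplit, hS', ← D.σ_conj B' hS]; group
  set π' := (D.κ mT)⁻¹ * D.σ R * D.κ mT * ((D.κ mT)⁻¹ * D.Γ B' * D.κ mT)
  have hπ' : π' ∈ D.P := mul_mem (D.T_conj_mem hRs hR0) (D.T_conj_Γ hB'row)
  have hkq : D.Γ Pk * D.q (bv 0) c = D.q (bv k) c * D.Γ Pk := by
    have := D.q_conj Pk (bv 0) c
    rw [hPk, pgl_bv, Equiv.swap_apply_left] at this
    rw [← this, hPk]; group
  have htot : D.W I * (D.Γ A * D.σ S) * D.κ mT =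
      (D.W I * D.Γ B * (D.W I)⁻¹) * ((D.W I * D.q (bv k) c * D.Ti k) * (D.Γ Pk * π')) := by
    calc D.W I * (D.Γ A * D.σ S) * D.κ mT
        = D.W I * (D.Γ B * D.Γ Pk * (D.Γ B' * D.σ S)) * D.κ mT := by rw [hA]; group
      _ = D.W I * D.Γ B * (D.Γ Pk * D.q (bv 0) c) * (D.σ R * D.Γ B' * D.κ mT) := by rw [hmove]; group
      _ = _ := by rw [hkq, Ti, ← hPk]; simp only [π']; group
  rw [htot]
  exact D.Ω_left (D.Ω_mul (D.cell I k c) (mul_mem (D.Γ_mem _) hπ')) hBmem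

theorem mem_Ω (htop : D.θ.range ⊔ D.κ.range = ⊤) (g : G) : g ∈ D.Ω := by
  let K : Subgroup G :=
    { carrier := {x | (∀ y ∈ D.Ω, y * x ∈ D.Ω) ∧ ∀ y ∈ D.Ω, y * x⁻¹ ∈ D.Ω}
      one_mem' := ⟨fun y hy => by simpa using hy, fun y hy => by simpa using hy⟩
      mul_mem' := fun {x z} hx hz => ⟨fun y hy => by rw [← mul_assoc]; exact hz.1 _ (hx.1 _ hy),
        fun y hy => by rw [_root_.mul_inv_rev, ← mul_assoc]; exact hx.2 _ (hz.2 _ hy)⟩
      inv_mem' := fun {x} hx => ⟨hx.2, fun y hy => by rw [inv_inv]; exact hx.1 _ hy⟩ }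
  have hP : D.P ≤ K := fun p hp => ⟨fun y hy => D.Ω_mul hy hp, fun y hy => D.Ω_mul hy (inv_mem hp)⟩
  have hT : D.κ mT ∈ K := by
    refine ⟨fun y hy => D.step hy, fun y hy => ?_⟩
    have : (D.κ mT)⁻¹ = D.κ mT * (D.Γ (dgl 0 (-1)))⁻¹ := by
      rw [D.Γ_dgl0, ← mT_sq, map_mul]; group
    rw [this, ← mul_assoc]
    exact D.Ω_mul (D.step hy) (inv_mem (D.Γ_mem _))
  have hκ : D.κ.range ≤ K := by
    have : (⊤ : Subgroup (SpecialLinearGroup (Fin 2) F)) ≤ K.comap D.κ := by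
      rw [← eq_top_of_mem (H := K.comap D.κ) hT fun x => hP (D.q_bv0 x ▸ D.q_memP (bv 0) x)]
    rintro _ ⟨x, rfl⟩
    exact this (Subgroup.mem_top x)
  have hθ : D.θ.range ≤ K := by
    rintro _ ⟨x, rfl⟩
    rw [← D.Γ_toGL]; exact hP (D.Γ_mem _)
  have hg : g ∈ K := (sup_le hθ hκ) (htop ▸ Subgroup.mem_top g)
  simpa using hg.1 1 ⟨1, one_mem _, ∅, 1, one_mem _, by rw [W_empty]; group⟩

end Glue

end Cfsg.Agent.KSG55.Sp
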