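import Cfsg.Agent.KSG55.Sp.GL
import Cfsg.Agent.KSG55.Lin.SL2Mat

set_option autoImplicit false

/-! The block elements of the symplectic group. -/

namespace Cfsg.Agent.KSG55.Sp

open Matrix Cfsg.Agent.KSG55.Lin

variable {F : Type*} [Field F] {n : ℕ}

local notation "𝕄" => Matrix (Fin n) (Fin n) F

/-- The symplectic group in the standard coordinates. -/
abbrev SpG (n : ℕ) (F : Type*) [Field F] := ↥(Matrix.symplecticGroup (Fin n) F)

theorem block_mem {A B C D : 𝕄} (h1 : B * Aᵀ = A * Bᵀ) (h2 : D * Cᵀ = C * Dᵀ) (h3 : A * Dᵀ - B * Cᵀ = 1) :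
    fromBlocks A B C D ∈ Matrix.symplecticGroup (Fin n) F := by
  rw [SymplecticGroup.mem_iff, Matrix.J, fromBlocks_multiply, fromBlocks_transpose, fromBlocks_multiply]
  have h3' : D * Aᵀ - C * Bᵀ = 1 := by
    have := congrArg Matrix.transpose h3
    simpa [transpose_mul] using this
  simp only [Matrix.mul_zero, Matrix.mul_neg, Matrix.mul_one, zero_add, add_zero, Matrix.neg_mul]
  congr 1
  · rw [h1]; abel
  · rw [← h3]; abel
  · rw [← h3']; abel
  · rw [h2]; abel

/-- The unipotent element. -/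
def sM (S : 𝕄) (hS : Sᵀ = S) : SpG n F := ⟨fromBlocks 1 S 0 1, block_mem (by simp [hS]) (by simp) (by simp)⟩

theorem sM_coe (S : 𝕄) (hS : Sᵀ = S) : (sM S hS).1 = fromBlocks 1 S 0 1 := rfl

theorem sM_mul (S S' : 𝕄) (hS : Sᵀ = S) (hS' : S'ᵀ = S') :
    sM S hS * sM S' hS' = sM (S + S') (by rw [transpose_add, hS, hS']) := by
  apply Subtype.ext
  show fromBlocks 1 S 0 1 * fromBlocks 1 S' 0 1 = fromBlocks 1 (S + S') 0 1
  rw [fromBlocks_multiply]
  simp [add_comm S']

/-- The Levi element. -/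
def gM : GL (Fin n) F →* SpG n F where
  toFun A := ⟨fromBlocks (A : 𝕄) 0 0 ((A⁻¹ : GL (Fin n) F) : 𝕄)ᵀ,
    block_mem (by simp) (by simp) (by simp [← Units.val_mul])⟩
  map_one' := Subtype.ext (by simp)
  map_mul' A B := Subtype.ext (by
    show fromBlocks _ 0 0 _ = fromBlocks (A : 𝕄) 0 0 _ * fromBlocks (B : 𝕄) 0 0 _
    rw [fromBlocks_multiply]
    simp [transpose_mul])

theorem gM_coe (A : GL (Fin n) F) : (gM A).1 = fromBlocks (A : 𝕄) 0 0 ((A⁻¹ : GL (Fin n) F) : 𝕄)ᵀ := rfl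

theorem gM_conj_sM (A : GL (Fin n) F) (S : 𝕄) (hS : Sᵀ = S) :
    gM A * sM S hS * (gM A)⁻¹ = sM ((A : 𝕄) * S * (A : 𝕄)ᵀ) (by simp [transpose_mul, hS, Matrix.mul_assoc]) := by
  rw [mul_inv_eq_iff_eq_mul]
  apply Subtype.ext
  show fromBlocks (A : 𝕄) 0 0 _ * fromBlocks 1 S 0 1 = fromBlocks 1 _ 0 1 * fromBlocks (A : 𝕄) 0 0 _
  rw [fromBlocks_multiply, fromBlocks_multiply]
  simp [Matrix.mul_assoc, ← transpose_mul, ← Units.val_mul]

variable [NeZero n]

/-- The first diagonal. -/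
def d0 (x : F) : 𝕄 := diagonal (Function.update 1 0 x)

theorem d0_mul (x y : F) : (d0 x : 𝕄) * d0 y = d0 (x * y) := by
  rw [d0, d0, d0, diagonal_mul_diagonal]; congr 1; funext i
  by_cases h : i = 0 <;> simp [h]

theorem single_d0 (x y : F) : single (0 : Fin n) (0 : Fin n) x * (d0 y : 𝕄) = single 0 0 (x * y) := by
  ext i j
  rw [d0, mul_diagonal, single_apply, single_apply]
  by_cases h : (0 : Fin n) = i ∧ 0 = j
  · obtain ⟨rfl, rfl⟩ := h; simp
  · simp [h]

theorem d0_single (x y : F) : (d0 y : 𝕄) * (single 0 0 x : 𝕄) = single 0 0 (y * x) := by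
  ext i j
  rw [d0, diagonal_mul, single_apply, single_apply]
  by_cases h : (0 : Fin n) = i ∧ 0 = j
  · obtain ⟨rfl, rfl⟩ := h; simp
  · simp [h]

theorem d0_add_single (x y : F) : (d0 x : 𝕄) + single 0 0 y = d0 (x + y) := by
  ext i j
  rw [Matrix.add_apply, d0, d0, diagonal_apply, diagonal_apply, single_apply]
  by_cases h : i = j
  · subst h; by_cases h' : i = 0
    · subst h'; simp
    · simp [h', Ne.symm h']
  · simp [h]; intro h1 h2; exact absurd (h1.symm.trans h2) h

theorem single_add_d0 (x y : F) : single 0 0 y + (d0 x : 𝕄) = d0 (y + x) := by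
  rw [add_comm, d0_add_single, add_comm]

/-- The embedding of `SL₂` on the first coordinate pair. -/
def kM : SpecialLinearGroup (Fin 2) F →* SpG n F where
  toFun M := ⟨fromBlocks (d0 (M.1 0 0)) (single 0 0 (M.1 0 1)) (single 0 0 (M.1 1 0)) (d0 (M.1 1 1)), by
    have hdet : M.1 0 0 * M.1 1 1 - M.1 0 1 * M.1 1 0 = 1 := by rw [← Matrix.det_fin_two, M.2]
    have ht : ∀ x : F, (d0 x : 𝕄)ᵀ = d0 x := fun x => diagonal_transpose _
    refine block_mem ?_ ?_ ?_ <;>
      simp only [ht, transpose_single, single_d0, d0_single, d0_mul, single_mul_single_same, mul_comm]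
    rw [sub_eq_add_neg, show ∀ z : F, -(single (0 : Fin n) (0 : Fin n) z) = single 0 0 (-z) from fun z => by
      ext i j; simp [single_apply]; split_ifs <;> simp, d0_add_single, d0, ← diagonal_one, ← sub_eq_add_neg]
    congr 1; funext i
    by_cases h : i = 0
    · subst h; simp; linear_combination hdet
    · simp [h]⟩
  map_one' := Subtype.ext (by
    have : (d0 1 : 𝕄) = 1 := by rw [d0, ← diagonal_one]; congr 1; funext i; by_cases h : i = 0 <;> simp [h]
    simp [this])
  map_mul' M N := Subtype.ext (by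
    show fromBlocks _ _ _ _ = fromBlocks (d0 _) _ _ _ * fromBlocks (d0 _) _ _ _
    rw [fromBlocks_multiply]
    simp only [d0_mul, single_d0, d0_single, single_mul_single_same, d0_add_single, single_add_d0, ← single_add]
    simp [Matrix.mul_apply, Fin.sum_univ_two])

theorem kM_coe (M : SpecialLinearGroup (Fin 2) F) : (kM M : SpG n F).1 =
    fromBlocks (d0 (M.1 0 0)) (single 0 0 (M.1 0 1)) (single 0 0 (M.1 1 0)) (d0 (M.1 1 1)) := rfl

theorem kM_mU (t : F) : (kM (mU t) : SpG n F) = sM (single 0 0 t) (transpose_single _ _ _) := by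
  apply Subtype.ext
  rw [kM_coe, sM_coe]
  have : (d0 1 : 𝕄) = 1 := by rw [d0, ← diagonal_one]; congr 1; funext i; by_cases h : i = 0 <;> simp [h]
  simp [this]

theorem kM_mH (a : Fˣ) : (kM (mH a) : SpG n F) = gM (dgl 0 a) := by
  apply Subtype.ext
  rw [kM_coe, gM_coe, ← map_inv, dgl_coe, dgl_coe]
  simp [d0]

end Cfsg.Agent.KSG55.Sp
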