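import Cfsg.Agent.KSG55.Sp.Inj

set_option autoImplicit false

/-! The relations as a list of pairs, and their validity in the symplectic group. -/

namespace Cfsg.Agent.KSG55.Sp

open Matrix Cfsg.Agent.KSG55.Lin

variable {F : Type*} [Field F] {m : ℕ}

local notation "GLn" => GL (Fin (m + 2)) F
local notation "Vn" => Fin (m + 2) → F
local notation "Mn" => Matrix (Fin (m + 2)) (Fin (m + 2)) F

theorem one_ne_two_fin (hm : 1 ≤ m) : (1 : Fin (m + 2)) ≠ 2 := fun e => by
  have := congrArg Fin.val e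
  simp [Nat.mod_eq_of_lt (show 2 < m + 2 by omega)] at this

section

variable {H : Type*} [Group H] (θ : SpecialLinearGroup (Fin (m + 2)) F → H)
  (κ : SpecialLinearGroup (Fin 2) F → H) (a : Fˣ)

/-- A commutation as a pair. -/
abbrev cp (x y : H) : H × H := (x * y, y * x)

/-- The gluing relations other than the action of the torus. -/
noncomputable def relPairs : List (H × H) :=
  [cp (γe θ κ (egl (show (0 : Fin (m + 2)) ≠ 1 from Fin.zero_ne_one) 1)) (κ (mU 1)),
    cp (γe θ κ (pgl (cyc m))) (κ (mU 1)),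
    cp (γe θ κ (dgl 1 a)) (κ (mU 1)),
    cp (γe θ κ (pgl (cyc m))) (κ mT),
    cp (γe θ κ (dgl 1 a)) (κ mT),
    cp (κ (mU 1)) (Ve θ κ sw01 1),
    cp (κ mT) (Ve θ κ sw01 1),
    cp (κ mT) (γe θ κ sw01 * κ mT * (γe θ κ sw01)⁻¹),
    (κ mT * γe θ κ x10 * (κ mT)⁻¹, κ (mU 1) * Ve θ κ sw01 1 * Ve θ κ x10 (-1)),
    (γe θ κ (dgl 0 a) * (Ve θ κ x10 1 * κ (mU (-1)) * Ve θ κ sw01 (-1)) * (γe θ κ (dgl 0 a))⁻¹,
      Ve θ κ x10 (a : F) * κ (mU (-(a : F))) * Ve θ κ sw01 (-(a : F)))] ++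
  if hm : 1 ≤ m then
    [cp (γe θ κ (egl (one_ne_two_fin hm) 1)) (κ (mU 1)),
      cp (γe θ κ (egl (one_ne_two_fin hm) 1)) (κ mT),
      (Ve θ κ (colE (bv 1 + bv 2)) 1 * κ (mU 1) * Ve θ κ sw01 1 * Ve θ κ (pgl (Equiv.swap 0 2)) 1,
        Ve θ κ x10 1 * Ve θ κ (colE (bv 2)) 1 * Ve θ κ (pgl (Equiv.swap 0 1 * Equiv.swap 1 2) * x10) 1)]
  else []

theorem relPairs_length : (relPairs θ κ a).length ≤ if 1 ≤ m then 13 else 10 := by
  unfold relPairs
  by_cases hm : 1 ≤ m <;> simp [hm]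

theorem rels_of_pairs (hc : ∀ B, κ (mH a) * θ B * (κ (mH a))⁻¹ = θ (conjD a B))
    (h : ∀ p ∈ relPairs θ κ a, p.1 = p.2) : Rels θ κ a := by
  have hb : ∀ p ∈ relPairs θ κ a, p.1 = p.2 := h
  unfold relPairs at hb
  simp only [List.cons_append, List.nil_append, List.forall_mem_cons] at hb
  obtain ⟨h1, h2, h3, h4, h5, h6, h7, h8, h9, h10, hrest⟩ := hb
  refine ⟨hc, h1, h2, h3, fun hm hne => ?_, h4, h5, fun hm hne => ?_, h6, h7, h8, h9, h10, fun hm => ?_⟩
  all_goals
    rw [dif_pos hm] at hrest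
    simp only [List.forall_mem_cons] at hrest
  · exact hrest.1
  · exact hrest.2.1
  · exact hrest.2.2.1

theorem map_γe {H' : Type*} [Group H'] (f : H →* H') (A : GLn) :
    f (γe θ κ A) = γe (fun x => f (θ x)) (fun x => f (κ x)) A := map_mul f _ _

theorem map_Ve {H' : Type*} [Group H'] (f : H →* H') (A : GLn) (t : F) :
    f (Ve θ κ A t) = Ve (fun x => f (θ x)) (fun x => f (κ x)) A t := by
  simp only [Ve, map_mul, map_inv, map_γe]

theorem map_relPairs {H' : Type*} [Group H'] (f : H →* H') :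
    (relPairs θ κ a).map (fun p => (f p.1, f p.2)) = relPairs (fun x => f (θ x)) (fun x => f (κ x)) a := by
  unfold relPairs
  by_cases hm : 1 ≤ m <;> simp [hm, map_γe, map_Ve]

end

/-- The maps into the model. -/
noncomputable def θM : SpecialLinearGroup (Fin (m + 2)) F →* SpG (m + 2) F := gM.comp SpecialLinearGroup.toGL

theorem γe_model (A : GLn) : γe (θM (F := F) (m := m)) (fun M => (kM M : SpG (m + 2) F)) A = gM A := by
  show gM (SpecialLinearGroup.toGL (toSL A)) * kM (mH (GeneralLinearGroup.det A)) = _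
  rw [kM_mH, ← map_mul, toGL_toSL, inv_mul_cancel_right]

theorem Ve_model (A : GLn) (t : F) {v : Vn} (hv : (A : Mn) *ᵥ bv 0 = v) :
    Ve (θM (F := F) (m := m)) (fun M => (kM M : SpG (m + 2) F)) A t =
      sM (t • vecMulVec v v) (by rw [transpose_smul, transpose_vecMulVec]) := by
  rw [Ve, γe_model, kM_mU, gM_conj_sM]
  apply Subtype.ext
  rw [sM_coe, sM_coe]
  congr 1
  rw [show Matrix.single (0 : Fin (m + 2)) (0 : Fin (m + 2)) t = t • vecMulVec (bv 0) (bv 0) by
    ext a b; simp [vecMulVec_apply, single_apply, bv, Pi.single_apply, ite_and, eq_comm]; split_ifs <;> simp]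
  rw [Matrix.mul_smul, Matrix.smul_mul, mul_vecMulVec, vecMulVec_mul, vecMul_transpose, hv]

theorem single_bv (i : Fin (m + 2)) (t : F) : Matrix.single i i t = t • vecMulVec (bv i) (bv i) := by
  ext a b; simp [vecMulVec_apply, single_apply, bv, Pi.single_apply, ite_and, eq_comm]; split_ifs <;> simp

theorem sM_comm {S S' : Mn} (hS : Sᵀ = S) (hS' : S'ᵀ = S') : Commute (sM S hS) (sM S' hS') := by
  show sM S hS * sM S' hS' = sM S' hS' * sM S hS
  rw [sM_mul, sM_mul]
  apply Subtype.ext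
  rw [sM_coe, sM_coe]
  congr 1
  abel

theorem comm_kU {A : GLn} (hA : (A : Mn) *ᵥ bv 0 = bv 0) (t : F) : Commute (gM A) (kM (mU t) : SpG (m + 2) F) := by
  show gM A * kM (mU t) = kM (mU t) * gM A
  rw [← mul_inv_eq_iff_eq_mul, kM_mU, gM_conj_sM]
  apply Subtype.ext
  rw [sM_coe, sM_coe]
  congr 1
  rw [single_bv, Matrix.mul_smul, Matrix.smul_mul, mul_vecMulVec, vecMulVec_mul, vecMul_transpose, hA]

theorem comm_kT {A : GLn} (h : FixAt 0 A) : Commute (gM A) (kM mT : SpG (m + 2) F) := by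
  have hinv : FixAt 0 A⁻¹ := by
    constructor
    · conv_lhs => rw [← h.1, mulVec_mulVec, ← Units.val_mul, inv_mul_cancel, Units.val_one, one_mulVec]
    · conv_lhs => rw [← h.2, vecMul_vecMul, ← Units.val_mul, mul_inv_cancel, Units.val_one, vecMul_one]
  have e0 : Matrix.single (0 : Fin (m + 2)) (0 : Fin (m + 2)) (1 : F) = vecMulVec (bv 0) (bv 0) := by
    rw [single_bv, one_smul]
  have en : Matrix.single (0 : Fin (m + 2)) (0 : Fin (m + 2)) (-1 : F) = -vecMulVec (bv 0) (bv 0) := by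
    rw [single_bv, neg_smul, one_smul]
  have ed : (d0 0 : Mn) = 1 - vecMulVec (bv 0) (bv 0) := by
    rw [← e0]
    ext a b
    simp only [d0, diagonal_apply, Matrix.sub_apply, one_apply, single_apply]
    by_cases hab : a = b
    · subst hab; by_cases ha : a = 0
      · subst ha; simp
      · simp [ha, Ne.symm ha]
    · simp [hab]; intro h1 h2; exact absurd (h1.symm.trans h2) hab
  apply Subtype.ext
  show (gM A).1 * (kM mT : SpG (m + 2) F).1 = (kM mT : SpG (m + 2) F).1 * (gM A).1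
  rw [gM_coe, kM_coe, fromBlocks_multiply, fromBlocks_multiply]
  simp only [mT_coe, of_apply, cons_val_zero, cons_val_one, e0, en, ed, Matrix.mul_zero, Matrix.zero_mul, add_zero,
    zero_add, Matrix.mul_sub, Matrix.sub_mul, Matrix.mul_one, Matrix.one_mul, mul_vecMulVec, vecMulVec_mul,
    Matrix.mul_neg, Matrix.neg_mul, mulVec_transpose, vecMul_transpose, h.1, h.2, hinv.1, hinv.2]
  simp
  rfl

theorem model_rels [Finite F] (a : Fˣ) :
    Rels (θM (F := F) (m := m)) (fun M => (kM M : SpG (m + 2) F)) a := by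
  have h01 : (0 : Fin (m + 2)) ≠ 1 := Fin.zero_ne_one
  have hsw : ((sw01 : GLn) : Mn) *ᵥ bv 0 = bv 1 := by rw [sw01, pgl_bv, Equiv.swap_apply_left]
  have hx10 : ((x10 : GLn) : Mn) *ᵥ bv 0 = bv 0 + bv 1 := Glue.x10_bv
  have hd1 : FixAt 0 (dgl (1 : Fin (m + 2)) a) := fixAt_dgl h01 a
  have hcyc : FixAt (F := F) 0 (pgl (cyc m)) := fixAt_pgl cyc_zero
  have hx12 : ∀ h : (1 : Fin (m + 2)) ≠ 2, 1 ≤ m → FixAt (F := F) 0 (egl h 1) := fun h hm => by
    have h02 : (2 : Fin (m + 2)) ≠ 0 := fun e => by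
      have := congrArg Fin.val e; simp [Nat.mod_eq_of_lt (show 2 < m + 2 by omega)] at this
    exact fixAt_rk1 _ (by simp [h01]) (by simp [bv, h02.symm])
  have hU : (kM (mU 1) : SpG (m + 2) F) = sM ((1 : F) • vecMulVec (bv 0) (bv 0))
      (by rw [transpose_smul, transpose_vecMulVec]) := by
    rw [kM_mU]; apply Subtype.ext; rw [sM_coe, sM_coe, single_bv]
  have hUt : ∀ t : F, (kM (mU t) : SpG (m + 2) F) = sM (t • vecMulVec (bv 0) (bv 0))
      (by rw [transpose_smul, transpose_vecMulVec]) := fun t => by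
    rw [kM_mU]; apply Subtype.ext; rw [sM_coe, sM_coe, single_bv]
  have hkT : (kM mT : SpG (m + 2) F).1 = fromBlocks (diagonal (Function.update 1 0 0))
        (Matrix.single 0 0 1) (-Matrix.single 0 0 1) (diagonal (Function.update 1 0 0)) := by
      rw [← gM_pgl_conj_kT 0, Equiv.swap_self,
        show (Equiv.refl (Fin (m + 2))) = (1 : Equiv.Perm (Fin (m + 2))) from rfl, map_one, map_one, one_mul, inv_one,
        mul_one]
  refine ⟨fun B => ?_, ?_, ?_, ?_, fun hm h => ?_, ?_, ?_, fun hm h => ?_, ?_, ?_, ?_, ?_, ?_, fun hm => ?_⟩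
  · show kM (mH a) * gM _ * (kM (mH a))⁻¹ = gM _
    rw [kM_mH, toGL_conjD, map_mul, map_mul, map_inv]
  · rw [γe_model]; exact comm_kU (by rw [egl, rk1_mulVec]; simp [bv, h01]) 1
  · rw [γe_model]; exact comm_kU hcyc.1 1
  · rw [γe_model]; exact comm_kU hd1.1 1
  · rw [γe_model]; exact comm_kU (hx12 h hm).1 1
  · rw [γe_model]; exact comm_kT hcyc
  · rw [γe_model]; exact comm_kT hd1
  · rw [γe_model]; exact comm_kT (hx12 h hm)
  · rw [Ve_model _ _ hsw]
    show Commute (kM (mU 1) : SpG (m + 2) F) _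
    rw [hU]; exact sM_comm _ _
  · rw [Ve_model _ _ hsw]
    apply Subtype.ext
    show (kM mT : SpG (m + 2) F).1 * (sM _ _).1 = (sM _ _).1 * (kM mT : SpG (m + 2) F).1
    rw [hkT, sM_coe, ← single_bv, ← diagonal_single, ← diagonal_single, ← diagonal_one, fromBlocks_multiply,
      fromBlocks_multiply]
    simp only [diagonal_mul_diagonal, diagonal_neg, diagonal_add, ← diagonal_zero]
    congr 1 <;> refine diagonal_eq_diagonal_iff.mpr fun j => ?_
    all_goals
      by_cases hj : j = 0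
      · subst hj; simp [h01]
      · by_cases hj1 : j = 1 <;> simp [hj, hj1, h01.symm]
  · rw [γe_model, sw01]
    apply Subtype.ext
    show (kM mT : SpG (m + 2) F).1 * (gM (pgl (Equiv.swap 0 1)) * kM mT * (gM (pgl (Equiv.swap 0 1)))⁻¹ :
      SpG (m + 2) F).1 = (gM (pgl (Equiv.swap 0 1)) * kM mT * (gM (pgl (Equiv.swap 0 1)))⁻¹ :
      SpG (m + 2) F).1 * (kM mT : SpG (m + 2) F).1
    rw [gM_pgl_conj_kT, hkT, ← diagonal_single, ← diagonal_single, fromBlocks_multiply, fromBlocks_multiply]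
    simp only [diagonal_mul_diagonal, diagonal_neg, diagonal_add]
    congr 1 <;> refine diagonal_eq_diagonal_iff.mpr fun j => ?_
    all_goals
      by_cases hj : j = 0
      · subst hj; simp [h01]
      · by_cases hj1 : j = 1 <;> simp [hj, hj1, h01.symm]
  · rw [γe_model, Ve_model _ _ hsw, Ve_model _ _ hx10]
    show kM mT * gM x10 * (kM mT)⁻¹ = kM (mU 1) * _ * _
    rw [hU, sM_mul, sM_mul, mul_inv_eq_iff_eq_mul]
    apply Subtype.ext
    show (kM mT : SpG (m + 2) F).1 * (gM x10).1 = (sM _ _).1 * (kM mT : SpG (m + 2) F).1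
    have hinv : (x10 : GLn)⁻¹ = egl (show (1 : Fin (m + 2)) ≠ 0 from h01.symm) (-1) :=
      inv_eq_of_mul_eq_one_right (by rw [x10, egl_mul, add_neg_cancel, egl_zero])
    rw [kM_coe, gM_coe, sM_coe, hinv]
    unfold x10
    rw [egl_coe, egl_coe, fromBlocks_multiply, fromBlocks_multiply]
    have e : ((1 : F) • vecMulVec (bv (0 : Fin (m + 2))) (bv (0 : Fin (m + 2))) : Mn) +
        (1 : F) • vecMulVec (bv (1 : Fin (m + 2))) (bv (1 : Fin (m + 2))) +
        (-1 : F) • vecMulVec (bv (0 : Fin (m + 2)) + bv 1) (bv (0 : Fin (m + 2)) + bv 1) =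
        -(Matrix.single 1 0 1 + Matrix.single 0 1 (1 : F)) := by
      rw [show Matrix.single (1 : Fin (m + 2)) (0 : Fin (m + 2)) (1 : F) = vecMulVec (bv 1) (bv 0) by
          ext a b; simp [vecMulVec_apply, single_apply, bv, Pi.single_apply, ite_and, eq_comm]; split_ifs <;> simp,
        show Matrix.single (0 : Fin (m + 2)) (1 : Fin (m + 2)) (1 : F) = vecMulVec (bv 0) (bv 1) by
          ext a b; simp [vecMulVec_apply, single_apply, bv, Pi.single_apply, ite_and, eq_comm]; split_ifs <;> simp]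
      simp only [one_smul, neg_smul, add_vecMulVec, vecMulVec_add]; abel
    rw [e]
    have hs : ∀ (k l : Fin (m + 2)) (c : F), Matrix.single k l c = c • vecMulVec (bv k) (bv l) := fun k l c => by
      ext a b; simp [vecMulVec_apply, single_apply, bv, Pi.single_apply, ite_and, eq_comm]; split_ifs <;> simp
    have ed : (d0 (0 : F) : Mn) = 1 - vecMulVec (bv 0) (bv 0) := by
      rw [eq_sub_iff_add_eq]
      rw [← one_smul F (vecMulVec (bv (0 : Fin (m + 2))) (bv 0)), ← hs, d0_add_single, zero_add, d0, ← diagonal_one]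
      congr 1; funext k; by_cases hk : k = 0 <;> simp [hk]
    have p00 : (bv 0 : Vn) ⬝ᵥ bv 0 = 1 := by simp [bv]
    have p01 : (bv 0 : Vn) ⬝ᵥ bv 1 = 0 := by simp [bv, h01]
    have p10 : (bv 1 : Vn) ⬝ᵥ bv 0 = 0 := by simp [bv, h01.symm]
    simp only [mT_coe, of_apply, cons_val_zero, cons_val_one, Matrix.transvection, transpose_add, transpose_one,
      hs, transpose_smul, transpose_vecMulVec, one_smul, neg_smul, ed, Matrix.mul_add, Matrix.add_mul, Matrix.mul_sub,
      Matrix.sub_mul, Matrix.mul_one, Matrix.one_mul, Matrix.mul_zero, Matrix.zero_mul, Matrix.neg_mul,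
      Matrix.mul_neg, vecMulVec_mul_vecMulVec, p00, p01, p10, zero_smul, vecMulVec_zero, neg_zero, add_zero, zero_add,
      sub_zero]
    congr 1 <;> simp [vecMulVec_mul_vecMulVec, Matrix.mul_add, p00, p01, p10] <;> abel
  · show γe _ _ (dgl 0 a) * (_ * kM (mU (-1)) * _) * _ = _ * kM (mU (-(a : F))) * _
    rw [γe_model, Ve_model _ _ hx10, Ve_model _ _ hsw, Ve_model _ _ hx10, Ve_model _ _ hsw, hUt, hUt, sM_mul, sM_mul,
      sM_mul, sM_mul, gM_conj_sM]
    apply Subtype.ext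
    rw [sM_coe, sM_coe]
    congr 1
    have key : ∀ (c t : F) (v w : Vn), t • vecMulVec (v + w) (v + w) + (-t) • vecMulVec v v + (-t) • vecMulVec w w =
        t • sy v w := fun c t v w => by
      simp only [sy, add_vecMulVec, vecMulVec_add, smul_add, neg_smul]; abel
    rw [key 0, key 0, Matrix.mul_smul, Matrix.smul_mul, sy_conj, dgl_mulVec, dgl_mulVec]
    ext i j
    simp [sy, vecMulVec_apply, bv, Function.update_apply, Pi.single_apply]
    split_ifs <;> simp_all
  · have h02 : (2 : Fin (m + 2)) ≠ 0 := fun e => by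
      have := congrArg Fin.val e; simp [Nat.mod_eq_of_lt (show 2 < m + 2 by omega)] at this
    have h12 := one_ne_two_fin (m := m) hm
    have hcol : ∀ x : Vn, x 0 = 0 → ((colE x : GLn) : Mn) *ᵥ bv 0 = bv 0 + x := fun x hx => by
      rw [colE, cgl_self]
      funext b; by_cases hb : b = 0
      · subst hb; simp [hx, bv]
      · simp [hb, bv]
    show _ * kM (mU 1) * _ * _ = _
    rw [Ve_model _ _ (hcol (bv 1 + bv 2) (by simp [bv, h01, h02.symm])), hU, Ve_model _ _ hsw,
      Ve_model _ _ (show ((pgl (Equiv.swap 0 2) : GLn) : Mn) *ᵥ bv 0 = bv 2 by rw [pgl_bv, Equiv.swap_apply_left]),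
      Ve_model _ _ hx10, Ve_model _ _ (hcol (bv 2) (by simp [bv, h02.symm])),
      Ve_model _ _ (show ((pgl (Equiv.swap 0 1 * Equiv.swap 1 2) * x10 : GLn) : Mn) *ᵥ bv 0 = bv 1 + bv 2 by
        rw [Units.val_mul, ← mulVec_mulVec, hx10, mulVec_add, pgl_bv, pgl_bv, Equiv.Perm.mul_apply,
          Equiv.Perm.mul_apply, Equiv.swap_apply_of_ne_of_ne h01 h02.symm, Equiv.swap_apply_left,
          Equiv.swap_apply_left, Equiv.swap_apply_of_ne_of_ne h02 h12.symm]),
      sM_mul, sM_mul, sM_mul, sM_mul, sM_mul]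
    apply Subtype.ext
    rw [sM_coe, sM_coe]
    congr 1
    simp only [one_smul, add_vecMulVec, vecMulVec_add]
    abel

end Cfsg.Agent.KSG55.Sp
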