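import Cfsg.Agent.KSG55.Sp.PresMain
import Cfsg.Agent.KSG55.SLn.Cases
import Cfsg.Agent.Lib.Symplectic.Simple

set_option autoImplicit false

/-! All ranks. -/

namespace Cfsg.Agent.KSG55.Sp

open Matrix Cfsg.Agent.KSG55.Lin Cfsg.Agent.KSG55.Pres

variable {F : Type*} [Field F] [Fintype F]

theorem sl2_seven {a : Fˣ} (ha : ∀ x : Fˣ, x ∈ Subgroup.zpowers a) : PresOn (gens a) 7 := by
  classical
  obtain ⟨p, hchar⟩ := CharP.exists F
  haveI := hchar
  haveI : Fact p.Prime := ⟨CharP.char_is_prime F p⟩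
  letI := ZMod.algebra F p
  by_cases hp : p = 2
  · subst hp; exact (presOn_two (p := 2) ha rfl).mono (by norm_num)
  · exact presOn_odd (p := p) ha hp

/-- Rank two. -/
theorem sp_two : ∃ g : Fin 6 → SpG 2 F, PresOn g 27 := by
  obtain ⟨a, ha⟩ := IsCyclic.exists_generator (α := Fˣ)
  have h := presOn_glue (m := 0) (fun x => mem_powers_iff_mem_zpowers.mpr (ha x)) (sl2_seven ha) (sl2_seven ha)
  exact ⟨_, h.mono (by simp)⟩

/-- Rank three. -/
theorem sp_three : ∃ g : Fin 8 → SpG 3 F, PresOn g 39 := by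
  obtain ⟨a, ha⟩ := IsCyclic.exists_generator (α := Fˣ)
  have h := presOn_glue (m := 1) (fun x => mem_powers_iff_mem_zpowers.mpr (ha x)) (presOn_SL3 ha) (sl2_seven ha)
  obtain ⟨g, hg⟩ := SLn.add_one h
  exact ⟨g, hg.mono (by simp)⟩

/-- Larger ranks. -/
theorem sp_large {n : ℕ} (hn : 4 ≤ n) : ∃ g : Fin 10 → SpG n F, PresOn g 52 := by
  obtain ⟨m, rfl⟩ : ∃ m, n = m + 2 := ⟨n - 2, by omega⟩
  obtain ⟨a, ha⟩ := IsCyclic.exists_generator (α := Fˣ)
  obtain ⟨g, hg⟩ := SLn.slots_seven (F := F) hn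
  have h := presOn_glue (fun x => mem_powers_iff_mem_zpowers.mpr (ha x)) hg (sl2_seven ha)
  exact ⟨_, h.mono (by split_ifs <;> omega)⟩

/-- Ranks four and five. -/
theorem sp_mid {n : ℕ} (hn : n = 4 ∨ n = 5) : ∃ g : Fin 9 → SpG n F, PresOn g 48 := by
  obtain ⟨m, rfl⟩ : ∃ m, n = m + 2 := ⟨n - 2, by omega⟩
  obtain ⟨a, ha⟩ := IsCyclic.exists_generator (α := Fˣ)
  obtain ⟨g, hg⟩ := SLn.slots_six (F := F) hn
  have h := presOn_glue (fun x => mem_powers_iff_mem_zpowers.mpr (ha x)) hg (sl2_seven ha)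
  exact ⟨_, h.mono (by split_ifs <;> omega)⟩

/-- The projective quotient costs one relation. -/
theorem psp_iso {n k r : ℕ} {g : Fin k → SpG n F} (h : PresOn g r) :
    ∃ g' : Fin k → Cfsg.PSp n F, PresOn g' (r + 1) := by
  refine ⟨_, h.quotient (Subgroup.center _) Symplectic.negOne (le_antisymm (fun x hx => ?_) ?_)⟩
  · rcases Symplectic.mem_center_iff.mp hx with rfl | rfl
    · exact one_mem _
    · exact Subgroup.subset_normalClosure (Set.mem_singleton _)
  · exact Subgroup.normalClosure_le_normal (Set.singleton_subset_iff.mpr (Symplectic.mem_center_iff.mpr (Or.inr rfl)))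

end Cfsg.Agent.KSG55.Sp
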