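import Cfsg.Agent.KSG55.Sp.Core

set_option autoImplicit false

/-! The long root Weyl elements and their action on the parabolic. -/

namespace Cfsg.Agent.KSG55.Sp

open Matrix Cfsg.Agent.KSG55.Lin

variable {F : Type*} [Field F] {m : ℕ}

local notation "GLn" => GL (Fin (m + 2)) F
local notation "Vn" => Fin (m + 2) → F
local notation "Mn" => Matrix (Fin (m + 2)) (Fin (m + 2)) F

/-- A symmetric rank two form. -/
def sy (v w : Vn) : Mn := vecMulVec v w + vecMulVec w v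

theorem sy_transpose (v w : Vn) : (sy v w)ᵀ = sy v w := by
  rw [sy, transpose_add, transpose_vecMulVec, transpose_vecMulVec]; abel

theorem sy_neg (v w : Vn) : sy (-v) w = -sy v w := by
  simp [sy, neg_vecMulVec, vecMulVec_neg, add_comm]

theorem sy_conj (A : GLn) (v w : Vn) :
    (A : Mn) * sy v w * (A : Mn)ᵀ = sy ((A : Mn) *ᵥ v) ((A : Mn) *ᵥ w) := by
  simp [sy, Matrix.mul_add, Matrix.add_mul, mul_vecMulVec, vecMulVec_mul, vecMul_transpose]

/-- The fixing condition. -/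
def FixAt (i : Fin (m + 2)) (A : GLn) : Prop := (A : Mn) *ᵥ bv i = bv i ∧ bv i ᵥ* (A : Mn) = bv i

theorem fixAt_pgl {i : Fin (m + 2)} {s : Equiv.Perm (Fin (m + 2))} (h : s i = i) : FixAt (F := F) i (pgl s) := by
  refine ⟨by rw [pgl_bv, h], ?_⟩
  rw [← mulVec_transpose, pgl_transpose, pgl_bv, Equiv.Perm.inv_eq_iff_eq.mpr h.symm]

theorem fixAt_dgl {i j : Fin (m + 2)} (h : i ≠ j) (d : Fˣ) : FixAt i (dgl j d) := by
  have e : ((dgl j d : GLn) : Mn) *ᵥ bv i = bv i := by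
    rw [dgl_mulVec]
    funext x
    by_cases hx : x = j
    · subst hx; simp [bv, h, Ne.symm h]
    · simp [hx]
  exact ⟨e, by rw [← mulVec_transpose, dgl_transpose, e]⟩

theorem fixAt_rk1 {i : Fin (m + 2)} {u w : Vn} (h : w ⬝ᵥ u = 0) (hu : u i = 0) (hw : w i = 0) :
    FixAt i (rk1 u w h) := by
  constructor
  · rw [rk1_mulVec]; simp [bv, hw]
  · rw [rk1_coe, vecMul_add, vecMul_one, vecMul_vecMulVec]
    simp [bv, hu]

/-- The rank one element moved by a Weyl element. -/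
noncomputable def Y (i : Fin (m + 2)) (w : Vn) (h : w i = 0) : GLn := rk1 w (bv i) (by simp [bv, h])

namespace Glue

variable {G : Type*} [Group G] (D : Glue F m G)

/-- The long root Weyl element at a coordinate. -/
noncomputable def Ti (i : Fin (m + 2)) : G :=
  D.Γ (pgl (Equiv.swap 0 i)) * D.κ mT * (D.Γ (pgl (Equiv.swap 0 i)))⁻¹

theorem Ti_zero : D.Ti 0 = D.κ mT := by
  rw [Ti, Equiv.swap_self, show (Equiv.refl (Fin (m + 2))) = (1 : Equiv.Perm (Fin (m + 2))) from rfl, map_one,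
    map_one, one_mul, inv_one, mul_one]

theorem σ_diag (v : Vn) (i : Fin (m + 2)) (h : v = bv i) (t : F) [Finite F] :
    D.σ (Matrix.single i i t) = D.q v t := by
  subst h
  rw [← D.σ_sq]
  congr 1
  ext a b
  simp [vecMulVec_apply, single_apply, bv, Pi.single_apply, ite_and, eq_comm]
  split_ifs <;> simp

variable [Finite F]

theorem Ti_perm (π : Equiv.Perm (Fin (m + 2))) (j : Fin (m + 2)) :
    D.Γ (pgl π) * D.Ti j * (D.Γ (pgl π))⁻¹ = D.Ti (π j) := by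
  set ρ := Equiv.swap 0 (π j) * π * Equiv.swap 0 j
  have hρ : ρ 0 = 0 := by simp [ρ]
  have hc := D.comm_T (A := pgl ρ) (fixAt_pgl hρ).1 (fixAt_pgl hρ).2
  have e : π * Equiv.swap 0 j = Equiv.swap 0 (π j) * ρ := by
    simp only [ρ, ← mul_assoc, Equiv.swap_mul_self, one_mul]
  rw [Ti, Ti, show D.Γ (pgl π) * (D.Γ (pgl (Equiv.swap 0 j)) * D.κ mT * (D.Γ (pgl (Equiv.swap 0 j)))⁻¹) *
    (D.Γ (pgl π))⁻¹ = (D.Γ (pgl π) * D.Γ (pgl (Equiv.swap 0 j))) * D.κ mT *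
    (D.Γ (pgl π) * D.Γ (pgl (Equiv.swap 0 j)))⁻¹ by group, ← map_mul, ← map_mul, e, map_mul, map_mul,
    show D.Γ (pgl (Equiv.swap 0 (π j))) * D.Γ (pgl ρ) * D.κ mT *
      (D.Γ (pgl (Equiv.swap 0 (π j))) * D.Γ (pgl ρ))⁻¹ =
      D.Γ (pgl (Equiv.swap 0 (π j))) * (D.Γ (pgl ρ) * D.κ mT * (D.Γ (pgl ρ))⁻¹) *
        (D.Γ (pgl (Equiv.swap 0 (π j))))⁻¹ by group, hc.eq, mul_inv_cancel_right]

theorem comm_Ti {i : Fin (m + 2)} {A : GLn} (h : FixAt i A) : Commute (D.Γ A) (D.Ti i) := by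
  set s : GLn := pgl (Equiv.swap 0 i)
  have hs : (s : Mn) *ᵥ bv 0 = bv i := by rw [pgl_bv, Equiv.swap_apply_left]
  have hs' : (s : Mn) *ᵥ bv i = bv 0 := by rw [pgl_bv, Equiv.swap_apply_right]
  have hinv : s⁻¹ = s := by rw [← map_inv, Equiv.swap_inv]
  have hT : (s : Mn)ᵀ = (s : Mn) := by rw [pgl_transpose, Equiv.swap_inv]
  have h1 : ((s⁻¹ * A * s : GLn) : Mn) *ᵥ bv 0 = bv 0 := by
    rw [hinv, Units.val_mul, Units.val_mul, ← mulVec_mulVec, ← mulVec_mulVec, hs, h.1, hs']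
  have h2 : bv 0 ᵥ* ((s⁻¹ * A * s : GLn) : Mn) = bv 0 := by
    have e : ∀ v, v ᵥ* (s : Mn) = (s : Mn) *ᵥ v := fun v => by rw [← mulVec_transpose, hT]
    rw [hinv, Units.val_mul, Units.val_mul, ← vecMul_vecMul, ← vecMul_vecMul, e (bv 0), hs, h.2, e, hs']
  have := (D.comm_T h1 h2).map (MulAut.conj (D.Γ s)).toMonoidHom
  simp only [MulEquiv.coe_toMonoidHom, MulAut.conj_apply] at this
  rw [Γ_conj, show s * (s⁻¹ * A * s) * s⁻¹ = A by group] at this
  exact this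

theorem Ti_comm (i j : Fin (m + 2)) : Commute (D.Ti i) (D.Ti j) := by
  rcases eq_or_ne i j with rfl | hij
  · exact Commute.refl _
  have h01 : Commute (D.Ti 0) (D.Ti 1) := by rw [Ti_zero]; exact D.rels.tt
  obtain ⟨π, hπ0, hπ1⟩ := exists_perm2 hij
  have := h01.map (MulAut.conj (D.Γ (pgl π))).toMonoidHom
  simp only [MulEquiv.coe_toMonoidHom, MulAut.conj_apply, Ti_perm, hπ0, hπ1] at this
  exact this

theorem Ti0_comm_q {v : Vn} (hv : v 0 = 0) (t : F) : Commute (D.κ mT) (D.q v t) := by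
  rcases eq_or_ne v 0 with rfl | hv0
  · rw [q_zero]; exact Commute.one_right _
  have base : ∀ t, Commute (D.κ mT) (D.q (bv 1) t) := by
    intro t
    induction t using sq_induction with
    | h0 => rw [q_at0]; exact Commute.one_right _
    | hadd x y hx hy => rw [q_add]; exact hx.mul_right hy
    | hneg x hx => rw [q_neg]; exact hx.inv_right
    | hsq y =>
      have h1 : Commute (D.κ mT) (D.q (bv 1) 1) := by
        rw [D.q_col (A := sw01) (v := bv 1) (by rw [sw01, pgl_bv, Equiv.swap_apply_left])]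
        exact D.rels.tu
      have hf := fixAt_dgl (F := F) (Fin.zero_ne_one (n := m)) y
      have := h1.map (MulAut.conj (D.Γ (dgl 1 y))).toMonoidHom
      simp only [MulEquiv.coe_toMonoidHom, MulAut.conj_apply, q_conj, dgl_bv, if_pos, q_scale, mul_one,
        (D.comm_T hf.1 hf.2).eq, mul_inv_cancel_right] at this
      exact this
  obtain ⟨i, hi⟩ := Function.ne_iff.mp hv0
  have hi0 : i ≠ 0 := fun e => hi (by rw [e]; exact hv)
  obtain ⟨A, hA0, hA1, hAr⟩ := exists_col1 hi0 hi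
  have := (base t).map (MulAut.conj (D.Γ A)).toMonoidHom
  simp only [MulEquiv.coe_toMonoidHom, MulAut.conj_apply, q_conj, hA1, (D.comm_T hA0 (hAr hv)).eq,
    mul_inv_cancel_right] at this
  exact this

theorem Ti_comm_q {i : Fin (m + 2)} {v : Vn} (hv : v i = 0) (t : F) : Commute (D.Ti i) (D.q v t) := by
  have h0 : (((pgl (Equiv.swap 0 i) : GLn) : Mn) *ᵥ v) 0 = 0 := by rw [pgl_mulVec]; simpa using hv
  have := (D.Ti0_comm_q h0 t).map (MulAut.conj (D.Γ (pgl (Equiv.swap 0 i)))).toMonoidHom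
  simp only [MulEquiv.coe_toMonoidHom, MulAut.conj_apply, q_conj, mulVec_mulVec, ← Units.val_mul, ← map_mul,
    Equiv.swap_mul_self, map_one, Units.val_one, one_mulVec] at this
  exact this

theorem Ti_comm_σ {i : Fin (m + 2)} {S : Mn} (hrow : ∀ j, S i j = 0) (hcol : ∀ j, S j i = 0) :
    Commute (D.Ti i) (D.σ S) := by
  have key : Lin D.qA S ∈ (⨆ (v : {v : Vn // v i = 0}), (D.qA v.1).range) := by
    refine AddSubgroup.add_mem _ (AddSubgroup.sum_mem _ fun k _ => ?_) (AddSubgroup.sum_mem _ fun p _ => ?_)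
    · by_cases hk : k = i
      · subst hk
        have : S k k - ∑ j ∈ Finset.univ.erase k, S k j = 0 := by simp [hrow]
        rw [this, map_zero]; exact AddSubgroup.zero_mem _
      · exact AddSubgroup.mem_iSup_of_mem ⟨bv k, by simp [bv, Ne.symm hk]⟩ ⟨_, rfl⟩
    · by_cases hp : p.1 = i ∨ p.2 = i
      · have : S p.1 p.2 = 0 := by rcases hp with h | h <;> rw [h] <;> simp [hrow, hcol]
        rw [this, map_zero]; exact AddSubgroup.zero_mem _
      · push Not at hp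
        exact AddSubgroup.mem_iSup_of_mem ⟨bv p.1 + bv p.2, by simp [bv, Ne.symm hp.1, Ne.symm hp.2]⟩ ⟨_, rfl⟩
  rw [σ]
  refine AddSubgroup.iSup_induction (C := fun x => Commute (D.Ti i) (D.el x)) _ key ?_ ?_ ?_
  · rintro v x ⟨t, rfl⟩
    exact D.Ti_comm_q v.2 t
  · exact Commute.one_right _
  · intro x y hx hy; rw [el_add]; exact hx.mul_right hy

theorem Ti0_Y {w : Vn} (hw : w 0 = 0) :
    D.κ mT * D.Γ (Y 0 w hw) * (D.κ mT)⁻¹ = D.σ (-sy w (bv 0)) := by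
  rcases eq_or_ne w 0 with rfl | hw0
  · have e : Y (F := F) (0 : Fin (m + 2)) 0 hw = 1 := Units.ext (by
      rw [Y, rk1_coe, zero_vecMulVec, add_zero, Units.val_one])
    rw [e, map_one, mul_one, mul_inv_cancel]
    simp [sy, zero_vecMulVec, vecMulVec_zero, σ_zero]
  obtain ⟨i, hi⟩ := Function.ne_iff.mp hw0
  have hi0 : i ≠ 0 := fun e => hi (by rw [e]; exact hw)
  obtain ⟨A, hA0, hA1, hAr⟩ := exists_col1 hi0 hi
  have hc := D.comm_T hA0 (hAr hw)
  have hb : (bv 1 : Vn) 0 = 0 := by simp [bv]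
  have base : D.κ mT * D.Γ (Y 0 (bv 1) hb) * (D.κ mT)⁻¹ = D.σ (-sy (bv 1) (bv 0)) := by
    have e : -sy (bv 1 : Vn) (bv 0) = (1 : F) • vecMulVec (bv 0) (bv 0) + (1 : F) • vecMulVec (bv 1) (bv 1) +
        (-1 : F) • vecMulVec (bv 0 + bv 1) (bv 0 + bv 1) := by
      simp only [sy, one_smul, neg_smul, add_vecMulVec, vecMulVec_add]; abel
    rw [e, σ_add, σ_add, σ_sq, σ_sq, σ_sq, q_bv0,
      D.q_col (A := sw01) (v := bv 1) (by rw [sw01, pgl_bv, Equiv.swap_apply_left]), D.q_col x10_bv]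
    exact D.rels.ty
  have := congrArg (fun g => D.Γ A * g * (D.Γ A)⁻¹) base
  simp only [D.σ_conj A (S := -sy (bv 1) (bv 0)) (by rw [transpose_neg, sy_transpose]), Matrix.mul_neg,
    Matrix.neg_mul, sy_conj, hA0, hA1] at this
  rw [← this]
  have hAinv : bv 0 ᵥ* ((A⁻¹ : GLn) : Mn) = bv 0 := by
    conv_lhs => rw [← hAr hw, vecMul_vecMul, ← Units.val_mul, mul_inv_cancel, Units.val_one, vecMul_one]
  have eY : A * Y 0 (bv 1) hb * A⁻¹ = Y 0 w hw := by
    apply Units.ext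
    rw [Y, conj_rk1 _ _ _ _ (by rw [hAinv, hA1]; simpa [bv] using hw), Y, rk1_coe, rk1_coe, hAinv, hA1]
  rw [← eY, map_mul, map_mul, map_inv,
    show D.Γ A * (D.κ mT * D.Γ (Y 0 (bv 1) hb) * (D.κ mT)⁻¹) * (D.Γ A)⁻¹ =
      (D.Γ A * D.κ mT) * D.Γ (Y 0 (bv 1) hb) * (D.Γ A * D.κ mT)⁻¹ by group, hc.eq]
  group

theorem Ti_Y (i : Fin (m + 2)) {w : Vn} (hw : w i = 0) :
    D.Ti i * D.Γ (Y i w hw) * (D.Ti i)⁻¹ = D.σ (-sy w (bv i)) := by
  set s : GLn := pgl (Equiv.swap 0 i)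
  set w' := (s : Mn) *ᵥ w
  have hw' : w' 0 = 0 := by simp only [w', s, pgl_mulVec]; simpa using hw
  have hsw : (s : Mn) *ᵥ w' = w := by
    simp [w', s, mulVec_mulVec, ← Units.val_mul, ← map_mul]
  have hs0 : (s : Mn) *ᵥ bv 0 = bv i := by rw [pgl_bv, Equiv.swap_apply_left]
  have hsr : bv 0 ᵥ* ((s⁻¹ : GLn) : Mn) = bv i := by
    rw [← map_inv, Equiv.swap_inv, ← mulVec_transpose, pgl_transpose, Equiv.swap_inv, hs0]
  have eY : s * Y 0 w' hw' * s⁻¹ = Y i w hw := by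
    apply Units.ext
    rw [Y, conj_rk1 _ _ _ _ (by rw [hsr, hsw]; simpa [bv] using hw), Y, rk1_coe, rk1_coe, hsr, hsw]
  have := congrArg (fun g => D.Γ s * g * (D.Γ s)⁻¹) (D.Ti0_Y hw')
  simp only [D.σ_conj s (S := -sy w' (bv 0)) (by rw [transpose_neg, sy_transpose]), Matrix.mul_neg, Matrix.neg_mul,
    sy_conj, hsw, hs0] at this
  rw [← this, ← eY, map_mul, map_mul, map_inv, Ti]
  simp only [s]
  group

theorem Ti_sq (i : Fin (m + 2)) : D.Ti i * D.Ti i = D.Γ (dgl i (-1)) := by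
  rw [Ti, show ∀ a b : G, (a * b * a⁻¹) * (a * b * a⁻¹) = a * (b * b) * a⁻¹ from fun a b => by group, ← map_mul,
    mT_sq, ← D.Γ_dgl0, Γ_conj, pgl_conj_dgl, Equiv.swap_apply_left]

theorem Ti_Y' (i : Fin (m + 2)) {w : Vn} (hw : w i = 0) :
    D.Ti i * D.σ (-sy w (bv i)) * (D.Ti i)⁻¹ = D.Γ (Y i (-w) (by simp [hw])) := by
  rw [← D.Ti_Y i hw, show ∀ a b : G, a * (a * b * a⁻¹) * a⁻¹ = (a * a) * b * (a * a)⁻¹ from fun a b => by group,
    Ti_sq, Γ_conj]
  congr 1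
  apply Units.ext
  have hinv : bv i ᵥ* ((dgl i (-1 : Fˣ))⁻¹ : GLn).1 = -bv i := by
    rw [← map_inv, ← mulVec_transpose, dgl_transpose, dgl_bv, if_pos rfl]; simp
  have hd : ((dgl i (-1 : Fˣ) : GLn) : Mn) *ᵥ w = w := by
    rw [dgl_mulVec]; funext x
    by_cases hx : x = i
    · subst hx; simp [hw]
    · simp [hx]
  rw [Y, conj_rk1 _ _ _ _ (by rw [hinv, hd]; simp [bv, hw]), Y, rk1_coe, rk1_coe, hinv, hd, vecMulVec_neg,
    neg_vecMulVec]

end Glue

end Cfsg.Agent.KSG55.Sp
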