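import Cfsg.Agent.KSG55.Sp.GL

set_option autoImplicit false

/-! A quadratic family indexed by vectors extends linearly to symmetric matrices. -/

namespace Cfsg.Agent.KSG55.Sp

open Matrix

variable {F : Type*} [Field F] {n : ℕ} {M : Type*} [AddCommGroup M]

/-- The hypotheses. -/
structure QFam (q : (Fin n → F) → F →+ M) : Prop where
  zero : ∀ t, q 0 t = 0
  scale : ∀ (c : F) v t, q (c • v) t = q v (c ^ 2 * t)
  two : ∀ i j, i ≠ j → ∀ α β t : F,
    q (α • bv i + β • bv j) t =
      q (bv i) (α ^ 2 * t - α * β * t) + q (bv j) (β ^ 2 * t - α * β * t) + q (bv i + bv j) (α * β * t)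
  three : ∀ u w r : Fin n → F, (∃ i, u = Pi.single i (u i) ∧ u i ≠ 0 ∧ w i = 0 ∧ r i = 0) →
    (∃ j, w = Pi.single j (w j) ∧ w j ≠ 0 ∧ u j = 0 ∧ r j = 0) → r ≠ 0 →
    ∀ t, q (u + w + r) t + q u t + q w t + q r t = q (u + w) t + q (u + r) t + q (w + r) t

/-- The linear extension. -/
def Lin (q : (Fin n → F) → F →+ M) (S : Matrix (Fin n) (Fin n) F) : M :=
  (∑ i, q (bv i) (S i i - ∑ j ∈ Finset.univ.erase i, S i j)) +
    ∑ p ∈ (Finset.univ.filter fun p : Fin n × Fin n => p.1 < p.2), q (bv p.1 + bv p.2) (S p.1 p.2)

variable {q : (Fin n → F) → F →+ M}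

theorem Lin_add (S S' : Matrix (Fin n) (Fin n) F) : Lin q (S + S') = Lin q S + Lin q S' := by
  simp only [Lin, Matrix.add_apply, Finset.sum_add_distrib]
  rw [show ∀ a b c d : M, a + b + (c + d) = (a + c) + (b + d) from fun a b c d => by abel]
  congr 1
  · rw [← Finset.sum_add_distrib]
    exact Finset.sum_congr rfl fun i _ => by rw [← map_add]; congr 1; ring
  · rw [← Finset.sum_add_distrib]
    exact Finset.sum_congr rfl fun p _ => map_add _ _ _

theorem Lin_zero : Lin q 0 = 0 := by simp [Lin]

/-- The same as a homomorphism. -/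
def LinHom (q : (Fin n → F) → F →+ M) : Matrix (Fin n) (Fin n) F →+ M where
  toFun := Lin q
  map_zero' := Lin_zero
  map_add' := Lin_add

/-- A symmetric matrix as a sum of squares of standard vectors. -/
theorem sym_decomp {S : Matrix (Fin n) (Fin n) F} (hS : Sᵀ = S) :
    S = (∑ i, (S i i - ∑ j ∈ Finset.univ.erase i, S i j) • vecMulVec (bv i) (bv i)) +
      ∑ p ∈ (Finset.univ.filter fun p : Fin n × Fin n => p.1 < p.2),
        S p.1 p.2 • vecMulVec (bv p.1 + bv p.2) (bv p.1 + bv p.2) := by
  have hs : ∀ a b, S b a = S a b := fun a b => by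
    have := congrFun (congrFun hS a) b
    simpa [Matrix.transpose_apply] using this
  ext a b
  simp only [Matrix.add_apply, Matrix.sum_apply, Matrix.smul_apply, vecMulVec_apply, smul_eq_mul, Pi.add_apply,
    bv, Pi.single_apply]
  by_cases hab : a = b
  · subst hab
    rw [Finset.sum_eq_single a (fun i _ hi => by simp [Ne.symm hi]) (by simp)]
    have e : ∑ p ∈ (Finset.univ.filter fun p : Fin n × Fin n => p.1 < p.2),
        S p.1 p.2 * (((if a = p.1 then (1 : F) else 0) + if a = p.2 then (1 : F) else 0) *
          ((if a = p.1 then (1 : F) else 0) + if a = p.2 then (1 : F) else 0)) =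
        ∑ j ∈ Finset.univ.erase a, S a j := by
      rw [Finset.sum_filter, Fintype.sum_prod_type]
      simp only
      rw [← Finset.add_sum_erase _ _ (Finset.mem_univ a)]
      have h1 : ∀ x ∈ Finset.univ.erase a, (∑ y, if x < y then S x y * (((if a = x then (1 : F) else 0) +
          if a = y then (1 : F) else 0) * ((if a = x then (1 : F) else 0) + if a = y then (1 : F) else 0)) else 0) =
          if x < a then S a x else 0 := by
        intro x hx
        have hxa := Finset.ne_of_mem_erase hx
        rw [Finset.sum_eq_single a (fun y _ hy => by simp [Ne.symm hxa, Ne.symm hy]) (by simp)]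
        by_cases h : x < a <;> simp [h, Ne.symm hxa, hs a x]
      rw [Finset.sum_congr rfl h1, ← Finset.add_sum_erase _ _ (Finset.mem_univ a), if_neg (lt_irrefl a), zero_add,
        ← Finset.sum_add_distrib]
      refine Finset.sum_congr rfl fun y hy => ?_
      have hya := Finset.ne_of_mem_erase hy
      rcases lt_or_gt_of_ne hya with h | h
      · simp [h, not_lt.mpr h.le]
      · simp [h, not_lt.mpr h.le, hya, Ne.symm hya]
    rw [e]; simp
  · rw [Finset.sum_eq_zero (fun i _ => by
      by_cases h : a = i
      · subst h; simp [Ne.symm hab]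
      · simp [h])]
    rw [zero_add]
    have hlt := lt_or_gt_of_ne hab
    rw [Finset.sum_eq_single (if a < b then (a, b) else (b, a))]
    · rcases hlt with h | h
      · simp [h, hab, Ne.symm hab]
      · simp [not_lt.mpr h.le, hab, Ne.symm hab, hs a b]
    · intro p hp hne
      rw [Finset.mem_filter] at hp
      have hp' := hp.2
      by_cases h1 : a = p.1 <;> by_cases h2 : b = p.2
      · exfalso; apply hne; rw [h1, h2, if_pos hp']
      all_goals by_cases h3 : a = p.2 <;> by_cases h4 : b = p.1
      all_goals first
        | exact absurd (h1.trans h4.symm) hab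
        | exact absurd (h3.trans h2.symm) hab
        | (exfalso; apply hne; rw [h3, h4, if_neg (not_lt.mpr hp'.le)])
        | simp [h1, h2, h3, h4]
    · intro h
      exfalso; apply h
      rw [Finset.mem_filter]
      refine ⟨Finset.mem_univ _, ?_⟩
      rcases hlt with h | h
      · simp [h]
      · simpa [not_lt.mpr h.le] using h

theorem Lin_sq (H : QFam q) (v : Fin n → F) (t : F) : Lin q (t • vecMulVec v v) = q v t := by
  classical
  suffices key : ∀ (s : Finset (Fin n)) (v : Fin n → F), (∀ i, i ∉ s → v i = 0) →
      ∀ t, Lin q (t • vecMulVec v v) = q v t from key Finset.univ v (by simp) t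
  clear v t
  -- small supports
  have two : ∀ i j : Fin n, i < j → ∀ α β t : F,
      Lin q (t • vecMulVec (α • bv i + β • bv j) (α • bv i + β • bv j)) = q (α • bv i + β • bv j) t := by
    intro i j hij α β t
    have hne : i ≠ j := hij.ne
    set v : Fin n → F := α • bv i + β • bv j with hv
    have vi : v i = α := by simp [hv, bv, hne.symm]
    have vj : v j = β := by simp [hv, bv, hne]
    have vk : ∀ k, k ≠ i → k ≠ j → v k = 0 := fun k h1 h2 => by simp [hv, bv, h1, h2]
    have hsum : ∀ k, ∑ l ∈ Finset.univ.erase k, v l = (α + β) - v k := fun k => by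
      rw [Finset.sum_erase_eq_sub (Finset.mem_univ k)]
      congr 1
      simp [hv, bv, Finset.sum_add_distrib, ← Finset.mul_sum]
    rw [H.two i j hne, Lin]
    congr 1
    · have : ∀ k ∉ ({i, j} : Finset (Fin n)), q (bv k) ((t • vecMulVec v v) k k -
          ∑ l ∈ Finset.univ.erase k, (t • vecMulVec v v) k l) = 0 := by
        intro k hk
        simp only [Finset.mem_insert, Finset.mem_singleton, not_or] at hk
        simp [vecMulVec_apply, vk k hk.1 hk.2]
      rw [← Finset.sum_subset (Finset.subset_univ ({i, j} : Finset (Fin n))) fun k _ hk => this k hk,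
        Finset.sum_pair hne]
      simp only [Matrix.smul_apply, vecMulVec_apply, smul_eq_mul, ← Finset.mul_sum, hsum, vi, vj]
      congr 1 <;> (congr 1; ring)
    · rw [Finset.sum_eq_single (i, j)]
      · simp only [Matrix.smul_apply, vecMulVec_apply, smul_eq_mul, vi, vj]
        congr 1; ring
      · intro p hp hne'
        rw [Finset.mem_filter] at hp
        simp only [Matrix.smul_apply, vecMulVec_apply, smul_eq_mul]
        by_cases h1 : p.1 = i ∨ p.1 = j
        · by_cases h2 : p.2 = i ∨ p.2 = j
          · exfalso
            rcases h1 with h1 | h1 <;> rcases h2 with h2 | h2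
            · exact absurd hp.2 (by rw [h1, h2]; exact lt_irrefl _)
            · exact hne' (Prod.ext h1 h2)
            · exact absurd hp.2 (by rw [h1, h2]; exact not_lt.mpr hij.le)
            · exact absurd hp.2 (by rw [h1, h2]; exact lt_irrefl _)
          · push Not at h2; simp [vk _ h2.1 h2.2]
        · push Not at h1; simp [vk _ h1.1 h1.2]
      · simp [hij]
  intro s
  induction s using Finset.strongInduction with
  | _ s ih =>
    intro v hv t
    by_cases hzero : ∃ i ∈ s, v i = 0
    · obtain ⟨i, hi, hvi⟩ := hzero
      refine ih (s.erase i) (Finset.erase_ssubset hi) v (fun k hk => ?_) t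
      by_cases hki : k = i
      · rw [hki, hvi]
      · exact hv k fun h => hk (Finset.mem_erase.mpr ⟨hki, h⟩)
    push Not at hzero
    rcases s.eq_empty_or_nonempty with rfl | ⟨i, hi⟩
    · rw [show v = 0 from funext fun k => hv k (by simp), H.zero]
      simp [vecMulVec_zero, Lin_zero]
    set u : Fin n → F := Pi.single i (v i) with hu
    rcases (s.erase i).eq_empty_or_nonempty with he | ⟨j, hj⟩
    · have hvu : v = v i • bv i := by
        funext k
        by_cases hk : k = i
        · subst hk; simp [bv]
        · rw [hv k fun h => by have := Finset.mem_erase.mpr ⟨hk, h⟩; rw [he] at this; simp at this]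
          simp [bv, hk]
      rw [hvu, H.scale, smul_vecMulVec, vecMulVec_smul, smul_smul, smul_smul, Lin]
      rw [Finset.sum_eq_single (s := (Finset.univ : Finset (Fin n))) i (fun k _ hk => by simp [vecMulVec_apply, bv, hk]) (by simp),
        Finset.sum_eq_zero (s := Finset.univ.filter fun p : Fin n × Fin n => p.1 < p.2) (fun p hp => by
          rw [Finset.mem_filter] at hp
          simp only [Matrix.smul_apply, vecMulVec_apply, bv, Pi.single_apply]
          by_cases h1 : p.1 = i
          · simp [show p.2 ≠ i from fun h => absurd hp.2 (by rw [h1, h]; exact lt_irrefl _)]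
          · simp [h1]), add_zero]
      rw [Finset.sum_eq_zero (fun k hk => by simp [vecMulVec_apply, bv, Finset.ne_of_mem_erase hk]), sub_zero]
      simp [vecMulVec_apply, bv]
      congr 1; ring
    rcases ((s.erase i).erase j).eq_empty_or_nonempty with he | ⟨l, hl⟩
    · have hij : j ≠ i := Finset.ne_of_mem_erase hj
      have hvu : v = v i • bv i + v j • bv j := by
        funext k
        by_cases hk : k = i
        · subst hk; simp [bv, hij.symm]
        by_cases hk' : k = j
        · subst hk'; simp [bv, hij]
        rw [hv k fun h => by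
          have := Finset.mem_erase.mpr ⟨hk', Finset.mem_erase.mpr ⟨hk, h⟩⟩; rw [he] at this; simp at this]
        simp [bv, hk, hk']
      rw [hvu]
      rcases lt_or_gt_of_ne hij with h | h
      · rw [add_comm]; exact two j i h _ _ _
      · exact two i j h _ _ _
    -- three or more
    set w : Fin n → F := Pi.single j (v j) with hw
    set r := v - u - w with hr
    have hij : j ≠ i := Finset.ne_of_mem_erase hj
    have hls := Finset.mem_of_mem_erase hl
    have hjs := Finset.mem_of_mem_erase hj
    have hlj : l ≠ j := Finset.ne_of_mem_erase hl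
    have hli : l ≠ i := Finset.ne_of_mem_erase hls
    have hv3 : v = u + w + r := by rw [hr]; abel
    have ri : r i = 0 := by simp [hr, hu, hw, hij.symm]
    have rj : r j = 0 := by simp [hr, hu, hw, hij]
    have rout : ∀ k, k ∉ s → r k = 0 := fun k hk => by
      simp [hr, hu, hw, hv k hk, show k ≠ i from fun e => hk (e ▸ hi), show k ≠ j from fun e => hk (e ▸ hjs)]
    have sub : ∀ x : Fin n → F, (∀ k, k ∉ s → x k = 0) → ∀ k ∈ s, x k = 0 → ∀ t,
        Lin q (t • vecMulVec x x) = q x t := fun x hx k hk hxk t =>
      ih (s.erase k) (Finset.erase_ssubset hk) x (fun a ha => by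
        by_cases e : a = k
        · rw [e, hxk]
        · exact hx a fun h => ha (Finset.mem_erase.mpr ⟨e, h⟩)) t
    have uout : ∀ k, k ∉ s → u k = 0 := fun k hk => by simp [hu, show k ≠ i from fun e => hk (e ▸ hi)]
    have wout : ∀ k, k ∉ s → w k = 0 := fun k hk => by simp [hw, show k ≠ j from fun e => hk (e ▸ hjs)]
    have h3 := H.three u w r ⟨i, by simp [hu], by simpa [hu] using hzero i hi, by simp [hw, hij.symm], ri⟩
      ⟨j, by simp [hw], by simpa [hw] using hzero j hjs, by simp [hu, hij], rj⟩
      (fun h => hzero l (Finset.mem_of_mem_erase hls) (by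
        have := congrFun h l; simpa [hr, hu, hw, hli, hlj] using this)) t
    have e1 := sub (u + w) (fun k hk => by simp [uout k hk, wout k hk]) l (Finset.mem_of_mem_erase hls)
      (by simp [hu, hw, hli, hlj]) t
    have e2 := sub (u + r) (fun k hk => by simp [uout k hk, rout k hk]) j hjs (by simp [hu, hij, rj]) t
    have e3 := sub (w + r) (fun k hk => by simp [wout k hk, rout k hk]) i hi (by simp [hw, hij.symm, ri]) t
    have e4 := sub u uout j hjs (by simp [hu, hij]) t
    have e5 := sub w wout i hi (by simp [hw, hij.symm]) t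
    have e6 := sub r rout i hi ri t
    have hid : t • vecMulVec v v + t • vecMulVec u u + t • vecMulVec w w + t • vecMulVec r r =
        t • vecMulVec (u + w) (u + w) + t • vecMulVec (u + r) (u + r) + t • vecMulVec (w + r) (w + r) := by
      rw [hv3]
      simp only [vecMulVec_add, add_vecMulVec, smul_add]
      abel
    have := congrArg (LinHom q) hid
    simp only [map_add] at this
    change Lin q _ + Lin q _ + Lin q _ + Lin q _ = Lin q _ + Lin q _ + Lin q _ at this
    rw [e1, e2, e3, e4, e5, e6, ← h3, ← hv3] at this
    exact add_right_cancel (add_right_cancel (add_right_cancel this))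

/-- The linear extension on a symmetric matrix, term by term. -/
theorem Lin_conj (H : QFam q) (φ : M →+ M) (A : Matrix (Fin n) (Fin n) F) (hφ : ∀ v t, φ (q v t) = q (A *ᵥ v) t)
    {S : Matrix (Fin n) (Fin n) F} (hS : Sᵀ = S) : φ (Lin q S) = Lin q (A * S * Aᵀ) := by
  conv_rhs => rw [sym_decomp hS]
  have e : ∀ (c : F) (v : Fin n → F), A * (c • vecMulVec v v) * Aᵀ = c • vecMulVec (A *ᵥ v) (A *ᵥ v) := fun c v => by
    rw [Matrix.mul_smul, Matrix.smul_mul, mul_vecMulVec, vecMulVec_mul, vecMul_transpose]
  simp only [Matrix.mul_add, Matrix.add_mul, Matrix.mul_sum, Matrix.sum_mul, e]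
  show φ (Lin q S) = LinHom q _
  rw [map_add, map_sum, map_sum]
  show φ (Lin q S) = (∑ i, Lin q _) + ∑ p ∈ _, Lin q _
  simp only [Lin_sq H]
  rw [Lin, map_add, map_sum, map_sum]
  simp only [hφ]

end Cfsg.Agent.KSG55.Sp
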