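import Cfsg.Agent.KSG55.Sp.Rels
import Cfsg.Agent.KSG55.Sp.Sym

set_option autoImplicit false

/-! The Siegel parabolic inside a group satisfying the relations. -/

namespace Cfsg.Agent.KSG55.Sp

open Matrix Cfsg.Agent.KSG55.Lin

variable {F : Type*} [Field F]

/-- A finite field is additively generated by the squares of units. -/
theorem sq_induction [Finite F] {P : F → Prop} (h0 : P 0) (hadd : ∀ x y, P x → P y → P (x + y))
    (hneg : ∀ x, P x → P (-x)) (hsq : ∀ y : Fˣ, P ((y : F) ^ 2)) : ∀ x, P x := by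
  have hsq' : ∀ y : F, P (y ^ 2) := fun y => by
    rcases eq_or_ne y 0 with rfl | hy
    · simpa using h0
    · simpa using hsq (Units.mk0 y hy)
  intro x
  by_cases h2 : ringChar F = 2
  · obtain ⟨y, hy⟩ := FiniteField.isSquare_of_char_two h2 x
    rw [hy, ← sq]; exact hsq' y
  · have hne : (2 : F) ≠ 0 := Ring.two_ne_zero h2
    have e : x = ((x + 1) / 2) ^ 2 + -(((x - 1) / 2) ^ 2) := by field_simp; ring
    rw [e]; exact hadd _ _ (hsq' _) (hneg _ (hsq' _))

variable {m : ℕ}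

local notation "GLn" => GL (Fin (m + 2)) F
local notation "Vn" => Fin (m + 2) → F
local notation "Mn" => Matrix (Fin (m + 2)) (Fin (m + 2)) F

theorem exists_col1 {v : Vn} {i : Fin (m + 2)} (hi : i ≠ 0) (hvi : v i ≠ 0) :
    ∃ A : GLn, (A : Mn) *ᵥ bv 0 = bv 0 ∧ (A : Mn) *ᵥ bv 1 = v ∧ (v 0 = 0 → bv 0 ᵥ* (A : Mn) = bv 0) := by
  have hs0 : (Equiv.swap 1 i) 0 = (0 : Fin (m + 2)) := Equiv.swap_apply_of_ne_of_ne Fin.zero_ne_one hi.symm
  refine ⟨pgl (Equiv.swap 1 i) * cgl 1 (v ∘ Equiv.swap 1 i) (by simpa using hvi), ?_, ?_, fun hv0 => ?_⟩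
  · rw [Units.val_mul, ← mulVec_mulVec, cgl_ne _ _ _ Fin.zero_ne_one, pgl_bv, hs0]
  · rw [Units.val_mul, ← mulVec_mulVec, cgl_self, pgl_mulVec]
    funext x; simp
  · funext b
    rw [single_one_vecMul]
    have e : ((pgl (Equiv.swap 1 i) * cgl 1 (v ∘ Equiv.swap 1 i) (by simpa using hvi) : GLn) : Mn) 0 b =
        (((pgl (Equiv.swap 1 i) * cgl 1 (v ∘ Equiv.swap 1 i) (by simpa using hvi) : GLn) : Mn) *ᵥ bv b) 0 := by
      rw [mulVec_single_one]; rfl
    show ((pgl (Equiv.swap 1 i) * cgl 1 (v ∘ Equiv.swap 1 i) (by simpa using hvi) : GLn) : Mn) 0 b = _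
    rw [e, Units.val_mul, ← mulVec_mulVec]
    by_cases hb : b = 1
    · subst hb
      rw [cgl_self, pgl_mulVec]
      simp [hv0, bv]
    · rw [cgl_ne _ _ _ hb, pgl_bv]
      by_cases hb0 : b = 0
      · subst hb0; simp [hs0, bv]
      · have : (Equiv.swap 1 i) b ≠ 0 := fun e => hb0 (by simpa using (Equiv.swap 1 i).injective (e.trans hs0.symm))
        simp [bv, Ne.symm this, hb0, Ne.symm hb0]

theorem exists_col0 {v : Vn} (hv : v ≠ 0) : ∃ A : GLn, (A : Mn) *ᵥ bv 0 = v := by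
  obtain ⟨i, hi⟩ := Function.ne_iff.mp hv
  refine ⟨pgl (Equiv.swap 0 i) * cgl 0 (v ∘ Equiv.swap 0 i) (by simpa using hi), ?_⟩
  rw [Units.val_mul, ← mulVec_mulVec, cgl_self, pgl_mulVec]
  funext x; simp

theorem exists_pair_cols {v w : Vn} (hv : v ≠ 0) (h : ∀ c : F, w ≠ c • v) :
    ∃ A : GLn, (A : Mn) *ᵥ bv 0 = v ∧ (A : Mn) *ᵥ bv 1 = w := by
  obtain ⟨A, hA⟩ := exists_col0 hv
  set w' := ((A⁻¹ : GLn) : Mn) *ᵥ w with hw'
  have hAw : (A : Mn) *ᵥ w' = w := by rw [hw', mulVec_mulVec, ← Units.val_mul, mul_inv_cancel, Units.val_one, one_mulVec]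
  by_cases hz : ∀ i, i ≠ 0 → w' i = 0
  · exfalso
    apply h (w' 0)
    have : w' = w' 0 • bv 0 := by
      funext i
      by_cases hi : i = 0
      · subst hi; simp [bv]
      · simp [bv, hi, hz i hi]
    rw [← hAw, this, mulVec_smul, hA]
    simp [bv]
  push Not at hz
  obtain ⟨i, hi, hwi⟩ := hz
  obtain ⟨B, hB0, hB1, -⟩ := exists_col1 hi hwi
  exact ⟨A * B, by rw [Units.val_mul, ← mulVec_mulVec, hB0, hA], by rw [Units.val_mul, ← mulVec_mulVec, hB1, hAw]⟩

/-- The data: two homomorphisms. -/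
structure Glue (F : Type*) [Field F] (m : ℕ) (G : Type*) [Group G] where
  θ : SpecialLinearGroup (Fin (m + 2)) F →* G
  κ : SpecialLinearGroup (Fin 2) F →* G
  a : Fˣ
  gen : ∀ x : Fˣ, x ∈ Submonoid.powers a
  rels : Rels (H := G) ⇑θ ⇑κ a

namespace Glue

variable {G : Type*} [Group G] (D : Glue F m G)

theorem kH_mul (d e : Fˣ) : D.κ (mH (d * e)) = D.κ (mH d) * D.κ (mH e) := by
  rw [← map_mul]; congr 1; exact mHHom.map_mul d e

theorem conj_kH (d : Fˣ) (B : SpecialLinearGroup (Fin (m + 2)) F) :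
    D.κ (mH d) * D.θ B * (D.κ (mH d))⁻¹ = D.θ (conjD d B) := by
  obtain ⟨k, rfl⟩ := D.gen d
  show D.κ (mH (D.a ^ k)) * D.θ B * (D.κ (mH (D.a ^ k)))⁻¹ = D.θ (conjD (D.a ^ k) B)
  induction k generalizing B with
  | zero =>
    have e1 : (mH (D.a ^ 0) : SpecialLinearGroup (Fin 2) F) = 1 := by rw [pow_zero]; exact mHHom.map_one
    have e2 : conjD (D.a ^ 0) B = B := toGL_inj (by rw [toGL_conjD, pow_zero, map_one, one_mul, inv_one, mul_one])
    rw [e1, e2, map_one, one_mul, inv_one, mul_one]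
  | succ k ih =>
    rw [pow_succ', D.kH_mul, show D.κ (mH D.a) * D.κ (mH (D.a ^ k)) * D.θ B *
      (D.κ (mH D.a) * D.κ (mH (D.a ^ k)))⁻¹ =
      D.κ (mH D.a) * (D.κ (mH (D.a ^ k)) * D.θ B * (D.κ (mH (D.a ^ k)))⁻¹) * (D.κ (mH D.a))⁻¹ by group,
      ih, D.rels.conjH]
    congr 1
    apply toGL_inj
    rw [toGL_conjD, toGL_conjD, toGL_conjD, map_mul]
    group

/-- The Levi subgroup as a homomorphism. -/
noncomputable def Γ : GLn →* G where
  toFun := γe ⇑D.θ ⇑D.κ
  map_one' := by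
    have e : toSL (1 : GLn) = 1 := toGL_inj (by rw [toGL_toSL, map_one, map_one, map_one, inv_one, mul_one])
    show D.θ _ * D.κ _ = 1
    rw [e, map_one, map_one, one_mul, show mH (1 : Fˣ) = (1 : SpecialLinearGroup (Fin 2) F) from mHHom.map_one,
      map_one]
  map_mul' A B := by
    show D.θ _ * D.κ _ = D.θ _ * D.κ _ * (D.θ _ * D.κ _)
    have e : toSL (A * B) = toSL A * conjD (GeneralLinearGroup.det A) (toSL B) := by
      apply toGL_inj
      rw [toGL_toSL, map_mul (SpecialLinearGroup.toGL), toGL_conjD, toGL_toSL, toGL_toSL, map_mul, map_mul]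
      group
    rw [e, map_mul D.θ, ← D.conj_kH, map_mul GeneralLinearGroup.det, D.kH_mul]
    group

theorem Γ_apply (A : GLn) : D.Γ A = γe ⇑D.θ ⇑D.κ A := rfl

theorem Γ_toGL (B : SpecialLinearGroup (Fin (m + 2)) F) : D.Γ (SpecialLinearGroup.toGL B) = D.θ B := by
  have hd : GeneralLinearGroup.det (SpecialLinearGroup.toGL B) = 1 := Units.ext B.2
  rw [Γ_apply, γe, hd, show toSL (SpecialLinearGroup.toGL B) = B from toGL_inj (by
    rw [toGL_toSL, hd, map_one, inv_one, mul_one]),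
    show mH (1 : Fˣ) = (1 : SpecialLinearGroup (Fin 2) F) from mHHom.map_one, map_one, mul_one]

theorem Γ_dgl0 (d : Fˣ) : D.Γ (dgl 0 d) = D.κ (mH d) := by
  have hd : GeneralLinearGroup.det (dgl (0 : Fin (m + 2)) d) = d := Units.ext (dgl_det 0 d)
  rw [Γ_apply, γe, hd, show toSL (dgl (0 : Fin (m + 2)) d) = 1 from toGL_inj (by
    rw [toGL_toSL, hd, mul_inv_cancel, map_one]), map_one, one_mul]

theorem Γ_conj (A B : GLn) : D.Γ A * D.Γ B * (D.Γ A)⁻¹ = D.Γ (A * B * A⁻¹) := by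
  rw [map_mul, map_mul, map_inv]

theorem kU_add (s t : F) : D.κ (mU (s + t)) = D.κ (mU s) * D.κ (mU t) := by rw [← map_mul, mU_mul]

theorem kU_neg (t : F) : D.κ (mU (-t)) = (D.κ (mU t))⁻¹ :=
  eq_inv_of_mul_eq_one_left (by rw [← D.kU_add, neg_add_cancel, mU_zero, map_one])

theorem kH_conj_U (d : Fˣ) (t : F) : D.κ (mH d) * D.κ (mU t) * (D.κ (mH d))⁻¹ = D.κ (mU ((d : F) ^ 2 * t)) := by
  rw [← map_inv, ← map_mul, ← map_mul, mH_conj]

variable [Finite F]

theorem dgl1_mem {g : G} (h : Commute (γe ⇑D.θ ⇑D.κ (dgl 1 D.a)) g) (d : Fˣ) :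
    dgl (1 : Fin (m + 2)) d ∈ (Subgroup.centralizer {g}).comap D.Γ := by
  obtain ⟨k, rfl⟩ := D.gen d
  show dgl (1 : Fin (m + 2)) (D.a ^ k) ∈ _
  rw [map_pow]
  exact pow_mem (Subgroup.mem_comap.mpr (Subgroup.mem_centralizer_singleton_iff.mpr h.eq)) k

omit [Finite F] in
theorem scale_mem {g : G} (hd : ∀ d : Fˣ, dgl (1 : Fin (m + 2)) d ∈ (Subgroup.centralizer {g}).comap D.Γ)
    {i j : Fin (m + 2)} (h : i ≠ j) (h1 : i = 1 ∨ j = 1)
    (hb : Commute (γe ⇑D.θ ⇑D.κ (egl h 1)) g) (c : F) : egl h c ∈ (Subgroup.centralizer {g}).comap D.Γ := by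
  set S := (Subgroup.centralizer {g}).comap D.Γ
  have hb' : egl h 1 ∈ S := Subgroup.mem_comap.mpr (Subgroup.mem_centralizer_singleton_iff.mpr hb.eq)
  rcases eq_or_ne c 0 with rfl | hc
  · rw [egl_zero]; exact one_mem _
  rcases h1 with rfl | rfl
  · have := mul_mem (mul_mem (hd (Units.mk0 c hc)) hb') (inv_mem (hd (Units.mk0 c hc)))
    rw [dgl_conj_egl, if_pos rfl, if_neg h.symm, mul_one, mul_one] at this
    exact this
  · have := mul_mem (mul_mem (hd (Units.mk0 c hc)⁻¹) hb') (inv_mem (hd (Units.mk0 c hc)⁻¹))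
    rw [dgl_conj_egl, if_neg h, if_pos rfl, one_mul, one_mul, inv_inv] at this
    exact this

theorem comm_U1 {A : GLn} (hA : (A : Mn) *ᵥ bv 0 = bv 0) : Commute (D.Γ A) (D.κ (mU 1)) := by
  have hd := D.dgl1_mem D.rels.uD
  refine Subgroup.mem_centralizer_singleton_iff.mp (Subgroup.mem_comap.mp
    (stab_mem (H := (Subgroup.centralizer {D.κ (mU 1)}).comap D.Γ) ?_ hd ?_ ?_ hA))
  · exact Subgroup.mem_comap.mpr (Subgroup.mem_centralizer_singleton_iff.mpr D.rels.uC.eq)
  · exact fun h c hm => D.scale_mem hd h (Or.inl rfl) (D.rels.uX' hm h) c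
  · exact fun h c => D.scale_mem hd h (Or.inr rfl) D.rels.uX c

theorem comm_U {A : GLn} (hA : (A : Mn) *ᵥ bv 0 = bv 0) (t : F) : Commute (D.Γ A) (D.κ (mU t)) := by
  induction t using sq_induction with
  | h0 => rw [mU_zero, map_one]; exact Commute.one_right _
  | hadd x y hx hy => rw [D.kU_add]; exact hx.mul_right hy
  | hneg x hx => rw [D.kU_neg]; exact hx.inv_right
  | hsq y =>
    set d := dgl (0 : Fin (m + 2)) y
    have hA' : ((d⁻¹ * A * d : GLn) : Mn) *ᵥ bv 0 = bv 0 := by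
      have e0 : ∀ z : Fˣ, ((dgl (0 : Fin (m + 2)) z : GLn) : Mn) *ᵥ bv 0 = (z : F) • bv 0 := fun z => by
        rw [dgl_mulVec]; funext x
        by_cases hx : x = 0
        · subst hx; simp [bv]
        · simp [bv, hx]
      rw [Units.val_mul, Units.val_mul, ← mulVec_mulVec, ← mulVec_mulVec, e0, mulVec_smul, hA, mulVec_smul,
        show ((d⁻¹ : GLn) : Mn) = ((dgl (0 : Fin (m + 2)) y⁻¹ : GLn) : Mn) by rw [map_inv], e0, smul_smul]
      simp
    have := (D.comm_U1 hA').map (MulAut.conj (D.Γ d)).toMonoidHom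
    simp only [MulEquiv.coe_toMonoidHom, MulAut.conj_apply] at this
    rw [Γ_conj, show d * (d⁻¹ * A * d) * d⁻¹ = A by group, D.Γ_dgl0, D.kH_conj_U, mul_one] at this
    exact this

theorem comm_T {A : GLn} (hc : (A : Mn) *ᵥ bv 0 = bv 0) (hr : bv 0 ᵥ* (A : Mn) = bv 0) :
    Commute (D.Γ A) (D.κ mT) := by
  obtain ⟨B, rfl⟩ := exists_blk hc hr
  have hd := D.dgl1_mem D.rels.tD
  refine Subgroup.mem_centralizer_singleton_iff.mp (Subgroup.mem_comap.mp
    (blk_mem (H := (Subgroup.centralizer {D.κ mT}).comap D.Γ) ?_ hd ?_ B))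
  · exact Subgroup.mem_comap.mpr (Subgroup.mem_centralizer_singleton_iff.mpr D.rels.tC.eq)
  · exact fun h c hm => D.scale_mem hd h (Or.inl rfl) (D.rels.tX' hm h) c

open scoped Classical in
/-- The root element of a vector. -/
noncomputable def q (v : Vn) (t : F) : G :=
  if hv : v = 0 then 1 else D.Γ (exists_col0 hv).choose * D.κ (mU t) * (D.Γ (exists_col0 hv).choose)⁻¹

omit [Finite F] in
theorem q_zero (t : F) : D.q 0 t = 1 := by rw [q, dif_pos rfl]

theorem q_col {A : GLn} {v : Vn} (hA : (A : Mn) *ᵥ bv 0 = v) (t : F) :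
    D.q v t = D.Γ A * D.κ (mU t) * (D.Γ A)⁻¹ := by
  have hv : v ≠ 0 := by
    intro h
    have := congrArg (fun x => ((A⁻¹ : GLn) : Mn) *ᵥ x) (hA.trans h)
    simp only [mulVec_mulVec, mulVec_zero, ← Units.val_mul, inv_mul_cancel, Units.val_one, one_mulVec] at this
    simpa [bv] using congrFun this 0
  rw [q, dif_neg hv]
  set B := (exists_col0 hv).choose
  have hB : (B : Mn) *ᵥ bv 0 = v := (exists_col0 hv).choose_spec
  have hC : ((B⁻¹ * A : GLn) : Mn) *ᵥ bv 0 = bv 0 := by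
    rw [Units.val_mul, ← mulVec_mulVec, hA, ← hB, mulVec_mulVec, ← Units.val_mul, inv_mul_cancel, Units.val_one,
      one_mulVec]
  rw [show D.Γ A = D.Γ B * D.Γ (B⁻¹ * A) by rw [← map_mul, mul_inv_cancel_left],
    show D.Γ B * D.Γ (B⁻¹ * A) * D.κ (mU t) * (D.Γ B * D.Γ (B⁻¹ * A))⁻¹ =
      D.Γ B * (D.Γ (B⁻¹ * A) * D.κ (mU t) * (D.Γ (B⁻¹ * A))⁻¹) * (D.Γ B)⁻¹ by group,
    (D.comm_U hC t).eq, mul_inv_cancel_right]

theorem q_bv0 (t : F) : D.q (bv 0) t = D.κ (mU t) := by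
  rw [D.q_col (A := 1) (by rw [Units.val_one, one_mulVec]), map_one, one_mul, inv_one, mul_one]

omit [Finite F] in
theorem mulVec_ne_zero (A : GLn) {v : Vn} (hv : v ≠ 0) : (A : Mn) *ᵥ v ≠ 0 := fun h => hv (by
  have := congrArg (fun x => ((A⁻¹ : GLn) : Mn) *ᵥ x) h
  simpa [mulVec_mulVec, ← Units.val_mul] using this)

theorem q_conj (A : GLn) (v : Vn) (t : F) : D.Γ A * D.q v t * (D.Γ A)⁻¹ = D.q ((A : Mn) *ᵥ v) t := by
  rcases eq_or_ne v 0 with rfl | hv
  · simp [q_zero]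
  obtain ⟨B, hB⟩ := exists_col0 hv
  rw [D.q_col hB, D.q_col (A := A * B) (v := (A : Mn) *ᵥ v) (by rw [Units.val_mul, ← mulVec_mulVec, hB]), map_mul]
  group

theorem q_scale (c : F) (v : Vn) (t : F) : D.q (c • v) t = D.q v (c ^ 2 * t) := by
  rcases eq_or_ne v 0 with rfl | hv
  · simp [q_zero]
  obtain ⟨B, hB⟩ := exists_col0 hv
  rcases eq_or_ne c 0 with rfl | hc
  · rw [zero_smul, q_zero, D.q_col hB]
    simp [mU_zero]
  have hcol : ((B * dgl 0 (Units.mk0 c hc) : GLn) : Mn) *ᵥ bv 0 = c • v := by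
    rw [Units.val_mul, ← mulVec_mulVec, dgl_mulVec, ← hB, ← mulVec_smul]
    congr 1
    funext x
    by_cases hx : x = 0
    · subst hx; simp [bv]
    · simp [bv, hx]
  rw [D.q_col hcol, D.q_col hB, map_mul, D.Γ_dgl0,
    show D.Γ B * D.κ (mH (Units.mk0 c hc)) * D.κ (mU t) * (D.Γ B * D.κ (mH (Units.mk0 c hc)))⁻¹ =
      D.Γ B * (D.κ (mH (Units.mk0 c hc)) * D.κ (mU t) * (D.κ (mH (Units.mk0 c hc)))⁻¹) * (D.Γ B)⁻¹ by group,
    D.kH_conj_U]
  rfl

theorem q_add (v : Vn) (s t : F) : D.q v (s + t) = D.q v s * D.q v t := by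
  rcases eq_or_ne v 0 with rfl | hv
  · simp [q_zero]
  obtain ⟨B, hB⟩ := exists_col0 hv
  rw [D.q_col hB, D.q_col hB, D.q_col hB, D.kU_add]; group

theorem q_at0 (v : Vn) : D.q v 0 = 1 := by
  have := D.q_add v 0 0
  rw [add_zero] at this
  exact left_eq_mul.mp this

theorem q_neg (v : Vn) (t : F) : D.q v (-t) = (D.q v t)⁻¹ :=
  eq_inv_of_mul_eq_one_left (by rw [← D.q_add, neg_add_cancel, D.q_at0])

omit [Finite F] in
theorem bv_ne_zero (i : Fin (m + 2)) : (bv i : Vn) ≠ 0 := fun h => by simpa [bv] using congrFun h i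

omit [Finite F] in
theorem dgl_bv (i j : Fin (m + 2)) (d : Fˣ) :
    ((dgl i d : GLn) : Mn) *ᵥ bv j = if j = i then (d : F) • bv j else bv j := by
  rw [dgl_mulVec]
  funext x
  by_cases h : j = i
  · subst h; rw [if_pos rfl]
    by_cases hx : x = j
    · subst hx; simp [bv]
    · simp [bv, hx]
  · rw [if_neg h]
    by_cases hx : x = i
    · subst hx; simp [bv, Ne.symm h]
    · simp [hx]

theorem q_comm (v w : Vn) (s t : F) : Commute (D.q v s) (D.q w t) := by
  have base : ∀ s t, Commute (D.q (bv 0) s) (D.q (bv 1) t) := by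
    have h11 : Commute (D.q (bv 0) 1) (D.q (bv 1) 1) := by
      rw [q_bv0, D.q_col (A := sw01) (by rw [sw01, pgl_bv, Equiv.swap_apply_left])]
      exact D.rels.uu
    intro s t
    induction s using sq_induction with
    | h0 => rw [q_at0]; exact Commute.one_left _
    | hadd x y hx hy => rw [q_add]; exact hx.mul_left hy
    | hneg x hx => rw [q_neg]; exact hx.inv_left
    | hsq y =>
      induction t using sq_induction with
      | h0 => rw [q_at0]; exact Commute.one_right _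
      | hadd x y' hx hy => rw [q_add]; exact hx.mul_right hy
      | hneg x hx => rw [q_neg]; exact hx.inv_right
      | hsq z =>
        have := h11.map (MulAut.conj (D.Γ (dgl 0 y * dgl 1 z))).toMonoidHom
        simp only [MulEquiv.coe_toMonoidHom, MulAut.conj_apply, q_conj, Units.val_mul, ← mulVec_mulVec, dgl_bv,
          if_neg Fin.zero_ne_one, if_neg (Fin.zero_ne_one (n := m)).symm, if_pos, mulVec_smul, q_scale,
          mul_one] at this
        exact this
  rcases eq_or_ne v 0 with rfl | hv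
  · rw [q_zero]; exact Commute.one_left _
  by_cases h : ∃ c : F, w = c • v
  · obtain ⟨c, rfl⟩ := h
    rw [q_scale]
    show D.q v s * D.q v _ = D.q v _ * D.q v s
    rw [← q_add, ← q_add, add_comm]
  push Not at h
  obtain ⟨A, hA0, hA1⟩ := exists_pair_cols hv h
  have := (base s t).map (MulAut.conj (D.Γ A)).toMonoidHom
  simp only [MulEquiv.coe_toMonoidHom, MulAut.conj_apply, q_conj, hA0, hA1] at this
  exact this

/-- The subgroup generated by the root elements of vectors. -/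
def QG : Subgroup G := Subgroup.closure {g | ∃ v t, g = D.q v t}

omit [Finite F] in
theorem q_mem (v : Vn) (t : F) : D.q v t ∈ D.QG := Subgroup.subset_closure ⟨v, t, rfl⟩

theorem QG_comm {x y : G} (hx : x ∈ D.QG) (hy : y ∈ D.QG) : Commute x y := by
  induction hx, hy using Subgroup.closure_induction₂ with
  | mem x y hx hy =>
    obtain ⟨v, s, rfl⟩ := hx
    obtain ⟨w, t, rfl⟩ := hy
    exact D.q_comm v w s t
  | one_left x hx => exact Commute.one_left x
  | one_right x hx => exact Commute.one_right x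
  | mul_left x y z _ _ _ h1 h2 => exact h1.mul_left h2
  | mul_right x y z _ _ _ h1 h2 => exact h1.mul_right h2
  | inv_left x y _ _ h => exact h.inv_left
  | inv_right x y _ _ h => exact h.inv_right

noncomputable instance QG_commGroup : CommGroup ↥D.QG :=
  { (inferInstance : Group ↥D.QG) with mul_comm := fun x y => Subtype.ext (D.QG_comm x.2 y.2).eq }

/-- The root elements, additively. -/
noncomputable def qA (v : Vn) : F →+ Additive ↥D.QG :=
  AddMonoidHom.mk' (fun t => Additive.ofMul ⟨D.q v t, D.q_mem v t⟩) fun s t =>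
    Additive.toMul.injective (Subtype.ext (D.q_add v s t))

/-- The underlying element. -/
def el (x : Additive ↥D.QG) : G := (Additive.toMul x).1

theorem el_qA (v : Vn) (t : F) : D.el (D.qA v t) = D.q v t := rfl
theorem el_add (x y : Additive ↥D.QG) : D.el (x + y) = D.el x * D.el y := rfl
theorem el_neg (x : Additive ↥D.QG) : D.el (-x) = (D.el x)⁻¹ := rfl
theorem el_sub (x y : Additive ↥D.QG) : D.el (x - y) = D.el x * (D.el y)⁻¹ := by
  rw [sub_eq_add_neg, el_add, el_neg]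
theorem el_zero : D.el 0 = 1 := rfl
theorem el_inj {x y : Additive ↥D.QG} (h : D.el x = D.el y) : x = y :=
  Additive.toMul.injective (Subtype.ext h)

/-- Conjugation by the Levi subgroup. -/
noncomputable def cA (A : GLn) : Additive ↥D.QG →+ Additive ↥D.QG :=
  MonoidHom.toAdditive
    ((((MulAut.conj (D.Γ A)).toMonoidHom.comp D.QG.subtype)).codRestrict D.QG fun x => by
      have hle : D.QG ≤ D.QG.comap (MulAut.conj (D.Γ A)).toMonoidHom := by
        refine (Subgroup.closure_le _).mpr ?_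
        rintro _ ⟨v, t, rfl⟩
        show D.Γ A * D.q v t * (D.Γ A)⁻¹ ∈ D.QG
        rw [q_conj]; exact D.q_mem _ _
      exact hle x.2)

theorem el_cA (A : GLn) (x : Additive ↥D.QG) : D.el (D.cA A x) = D.Γ A * D.el x * (D.Γ A)⁻¹ := rfl

theorem cA_qA (A : GLn) (v : Vn) (t : F) : D.cA A (D.qA v t) = D.qA ((A : Mn) *ᵥ v) t :=
  D.el_inj (by rw [el_cA, el_qA, el_qA, q_conj])

theorem qA_zero (t : F) : D.qA 0 t = 0 := D.el_inj (D.q_zero t)

theorem qA_scale (c : F) (v : Vn) (t : F) : D.qA (c • v) t = D.qA v (c ^ 2 * t) := D.el_inj (D.q_scale c v t)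

omit [Finite F] in
theorem x10_bv : ((x10 : GLn) : Mn) *ᵥ bv 0 = bv 0 + bv 1 := by
  rw [x10, egl, rk1_mulVec]; simp [bv]

theorem two_base (α : F) (hα : α ≠ 0) (t : F) :
    D.qA (α • bv 0 + bv 1) t - D.qA (bv 0) (α ^ 2 * t) - D.qA (bv 1) t =
      D.qA (bv 0 + bv 1) (α * t) - D.qA (bv 0) (α * t) - D.qA (bv 1) (α * t) := by
  set a := D.a
  have hV : ∀ t, D.el (D.qA (bv 0 + bv 1) t - D.qA (bv 0) t - D.qA (bv 1) t) =
      Ve ⇑D.θ ⇑D.κ x10 t * D.κ (mU (-t)) * Ve ⇑D.θ ⇑D.κ sw01 (-t) := fun t => by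
    rw [sub_eq_add_neg, sub_eq_add_neg, ← map_neg, ← map_neg, el_add, el_add, el_qA, el_qA, el_qA, q_bv0,
      D.q_col x10_bv, D.q_col (A := sw01) (v := bv 1) (by rw [sw01, pgl_bv, Equiv.swap_apply_left])]
    rfl
  -- the image of the relation
  have h1 : D.qA ((a : F) • bv 0 + bv 1) 1 - D.qA (bv 0) ((a : F) ^ 2) - D.qA (bv 1) 1 =
      D.qA (bv 0 + bv 1) (a : F) - D.qA (bv 0) (a : F) - D.qA (bv 1) (a : F) := by
    have e : D.cA (dgl 0 a) (D.qA (bv 0 + bv 1) 1 - D.qA (bv 0) 1 - D.qA (bv 1) 1) =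
        D.qA (bv 0 + bv 1) (a : F) - D.qA (bv 0) (a : F) - D.qA (bv 1) (a : F) := by
      apply D.el_inj
      rw [el_cA, hV, hV]
      exact D.rels.two
    rw [map_sub, map_sub, cA_qA, cA_qA, cA_qA, mulVec_add, dgl_bv, dgl_bv, if_pos rfl,
      if_neg (Fin.zero_ne_one (n := m)).symm, qA_scale, mul_one] at e
    exact e
  have h2 : ∀ t, D.qA ((a : F) • bv 0 + bv 1) t - D.qA (bv 0) ((a : F) ^ 2 * t) - D.qA (bv 1) t =
      D.qA (bv 0 + bv 1) ((a : F) * t) - D.qA (bv 0) ((a : F) * t) - D.qA (bv 1) ((a : F) * t) := by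
    intro t
    induction t using sq_induction with
    | h0 => simp
    | hadd x y hx hy =>
      simp only [mul_add, map_add]
      linear_combination (norm := abel) hx + hy
    | hneg x hx =>
      simp only [mul_neg, map_neg]
      linear_combination (norm := abel) -hx
    | hsq y =>
      have hs : ∀ v : Vn, ((GeneralLinearGroup.scalar (Fin (m + 2)) y : GLn) : Mn) *ᵥ v = (y : F) • v := fun v => by
        rw [GeneralLinearGroup.coe_scalar, Matrix.scalar_apply, ← smul_one_eq_diagonal, smul_mulVec, one_mulVec]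
      have e := congrArg (D.cA (GeneralLinearGroup.scalar (Fin (m + 2)) y)) h1
      simp only [map_sub, cA_qA, hs, qA_scale, mul_one] at e
      rw [mul_comm ((a : F) ^ 2), mul_comm (a : F)]
      exact e
  obtain ⟨k, hk⟩ := D.gen (Units.mk0 α hα)
  have hα' : α = (a : F) ^ k := by rw [← Units.val_pow_eq_pow_val]; exact (congrArg Units.val hk).symm
  subst hα'
  clear hk hα
  induction k generalizing t with
  | zero => simp
  | succ k ih =>
    have e := congrArg (D.cA (dgl 0 a)) (ih t)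
    simp only [map_sub, cA_qA, mulVec_add, mulVec_smul, dgl_bv, if_pos, if_neg (Fin.zero_ne_one (n := m)).symm,
      smul_smul, qA_scale] at e
    rw [h2] at e
    rw [pow_succ]
    convert e using 3 <;> ring

omit [Finite F] in
theorem exists_perm2 {i j : Fin (m + 2)} (hij : i ≠ j) :
    ∃ π : Equiv.Perm (Fin (m + 2)), π 0 = i ∧ π 1 = j := by
  refine ⟨Equiv.swap (Equiv.swap 0 i 1) j * Equiv.swap 0 i, ?_, ?_⟩
  · rw [Equiv.Perm.mul_apply, Equiv.swap_apply_left]
    refine Equiv.swap_apply_of_ne_of_ne (fun e => ?_) hij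
    exact Fin.zero_ne_one ((Equiv.swap 0 i).injective ((Equiv.swap_apply_left 0 i).trans e))
  · rw [Equiv.Perm.mul_apply, Equiv.swap_apply_left]

omit [Finite F] in
theorem exists_three_cols {i j : Fin (m + 2)} (hij : i ≠ j) {α β : F} (hα : α ≠ 0) (hβ : β ≠ 0) {r : Vn}
    (hri : r i = 0) (hrj : r j = 0) (hr : r ≠ 0) :
    1 ≤ m ∧ ∃ A : GLn, (A : Mn) *ᵥ bv 0 = α • bv i ∧ (A : Mn) *ᵥ bv 1 = β • bv j ∧ (A : Mn) *ᵥ bv 2 = r := by
  obtain ⟨π, hπ0, hπ1⟩ := exists_perm2 hij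
  obtain ⟨l, hl⟩ := Function.ne_iff.mp hr
  set l' := π⁻¹ l with hl'
  have hl0 : l' ≠ 0 := fun e => hl (by
    have : l = i := by rw [← hπ0, ← e, hl']; simp
    rw [this, hri]; rfl)
  have hl1 : l' ≠ 1 := fun e => hl (by
    have : l = j := by rw [← hπ1, ← e, hl']; simp
    rw [this, hrj]; rfl)
  have hm : 1 ≤ m := by
    by_contra hm
    have h1 : (l'.val) ≠ 0 := fun e => hl0 (Fin.ext e)
    have h2 : (l'.val) ≠ 1 := fun e => hl1 (Fin.ext (by simpa using e))
    have := l'.isLt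
    omega
  have h20 : (2 : Fin (m + 2)) ≠ 0 := fun e => by
    have := congrArg Fin.val e; simp [Nat.mod_eq_of_lt (show 2 < m + 2 by omega)] at this
  have h21 : (2 : Fin (m + 2)) ≠ 1 := fun e => by
    have := congrArg Fin.val e; simp [Nat.mod_eq_of_lt (show 2 < m + 2 by omega)] at this
  set π' := π * Equiv.swap 2 l' with hπ'
  have e0 : π' 0 = i := by rw [hπ', Equiv.Perm.mul_apply, Equiv.swap_apply_of_ne_of_ne h20.symm hl0.symm, hπ0]
  have e1 : π' 1 = j := by rw [hπ', Equiv.Perm.mul_apply, Equiv.swap_apply_of_ne_of_ne h21.symm hl1.symm, hπ1]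
  have e2 : (r ∘ π') 2 ≠ 0 := by
    show r (π' 2) ≠ 0
    rw [hπ', Equiv.Perm.mul_apply, Equiv.swap_apply_left, hl']
    simpa using hl
  refine ⟨hm, pgl π' * cgl 2 (r ∘ π') e2 * (dgl 0 (Units.mk0 α hα) * dgl 1 (Units.mk0 β hβ)), ?_, ?_, ?_⟩
  · simp only [Units.val_mul, ← mulVec_mulVec, dgl_bv, if_neg Fin.zero_ne_one, if_pos, mulVec_smul,
      cgl_ne _ _ _ h20.symm, pgl_bv, e0]
    rfl
  · simp only [Units.val_mul, ← mulVec_mulVec, dgl_bv, if_neg (Fin.zero_ne_one (n := m)).symm, if_pos, mulVec_smul,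
      cgl_ne _ _ _ h21.symm, pgl_bv, e1]
    rfl
  · simp only [Units.val_mul, ← mulVec_mulVec, dgl_bv, if_neg h20, if_neg h21, cgl_self, pgl_mulVec]
    funext x; simp

theorem qFam : QFam D.qA := by
  refine ⟨D.qA_zero, D.qA_scale, fun i j hij α β t => ?_, ?_⟩
  · rcases eq_or_ne β 0 with rfl | hβ
    · simp [qA_scale]
    rcases eq_or_ne α 0 with rfl | hα
    · simp [qA_scale]
    obtain ⟨π, hπ0, hπ1⟩ := exists_perm2 hij
    have e := congrArg (D.cA (pgl π)) (D.two_base (α / β) (div_ne_zero hα hβ) (β ^ 2 * t))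
    simp only [map_sub, cA_qA, mulVec_add, mulVec_smul, pgl_bv, hπ0, hπ1] at e
    rw [show α • bv i + β • bv j = β • ((α / β) • bv i + bv j) by rw [smul_add, smul_smul, mul_div_cancel₀ _ hβ],
      qA_scale, show (α / β) ^ 2 * (β ^ 2 * t) = α ^ 2 * t by field_simp,
      show α / β * (β ^ 2 * t) = α * β * t by field_simp] at *
    rw [map_sub, map_sub]
    linear_combination (norm := abel) e
  · rintro u w r ⟨i, hu, hui, hwi, hri⟩ ⟨j, hw, hwj, huj, hrj⟩ hr t
    have hij : i ≠ j := fun e => hui (by rw [e]; exact huj)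
    have hu' : u = u i • bv i := by
      conv_lhs => rw [hu]
      funext x; by_cases h : x = i
      · subst h; simp [bv]
      · simp [bv, h]
    have hw' : w = w j • bv j := by
      conv_lhs => rw [hw]
      funext x; by_cases h : x = j
      · subst h; simp [bv]
      · simp [bv, h]
    obtain ⟨hm, A, hA0, hA1, hA2⟩ := exists_three_cols hij hui hwj hri hrj hr
    rw [← hu'] at hA0
    rw [← hw'] at hA1
    have h12 : (1 : Fin (m + 2)) ≠ 2 := fun e => by
      have := congrArg Fin.val e; simp [Nat.mod_eq_of_lt (show 2 < m + 2 by omega)] at this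
    have h02 : (0 : Fin (m + 2)) ≠ 2 := fun e => by
      have := congrArg Fin.val e; simp [Nat.mod_eq_of_lt (show 2 < m + 2 by omega)] at this
    have hcol : ∀ x : Vn, x 0 = 0 → ((colE x : GLn) : Mn) *ᵥ bv 0 = bv 0 + x := fun x hx => by
      rw [colE, cgl_self]
      funext b; by_cases hb : b = 0
      · subst hb; simp [hx, bv]
      · simp [hb, bv]
    have base : D.qA (bv 0 + bv 1 + bv 2) 1 + D.qA (bv 0) 1 + D.qA (bv 1) 1 + D.qA (bv 2) 1 =
        D.qA (bv 0 + bv 1) 1 + D.qA (bv 0 + bv 2) 1 + D.qA (bv 1 + bv 2) 1 := by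
      apply D.el_inj
      simp only [el_add, el_qA]
      rw [q_bv0, D.q_col (A := sw01) (v := bv 1) (by rw [sw01, pgl_bv, Equiv.swap_apply_left]),
        D.q_col (A := pgl (Equiv.swap 0 2)) (v := bv 2) (by rw [pgl_bv, Equiv.swap_apply_left]),
        D.q_col (A := colE (bv 1 + bv 2)) (v := bv 0 + bv 1 + bv 2)
          (by rw [hcol _ (by simp [bv, h02]), add_assoc]),
        D.q_col (A := x10) (v := bv 0 + bv 1) x10_bv,
        D.q_col (A := colE (bv 2)) (v := bv 0 + bv 2) (hcol _ (by simp [bv, h02])),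
        D.q_col (A := pgl (Equiv.swap 0 1 * Equiv.swap 1 2) * x10) (v := bv 1 + bv 2) (by
          rw [Units.val_mul, ← mulVec_mulVec, x10_bv, mulVec_add, pgl_bv, pgl_bv, Equiv.Perm.mul_apply,
            Equiv.Perm.mul_apply, Equiv.swap_apply_of_ne_of_ne Fin.zero_ne_one h02, Equiv.swap_apply_left,
            Equiv.swap_apply_left, Equiv.swap_apply_of_ne_of_ne h02.symm h12.symm])]
      exact D.rels.three hm
    have all : ∀ t, D.qA (bv 0 + bv 1 + bv 2) t + D.qA (bv 0) t + D.qA (bv 1) t + D.qA (bv 2) t =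
        D.qA (bv 0 + bv 1) t + D.qA (bv 0 + bv 2) t + D.qA (bv 1 + bv 2) t := by
      intro t
      induction t using sq_induction with
      | h0 => simp
      | hadd x y hx hy =>
        simp only [map_add]
        linear_combination (norm := abel) hx + hy
      | hneg x hx =>
        simp only [map_neg]
        linear_combination (norm := abel) -hx
      | hsq y =>
        have hs : ∀ v : Vn, ((GeneralLinearGroup.scalar (Fin (m + 2)) y : GLn) : Mn) *ᵥ v = (y : F) • v := fun v => by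
          rw [GeneralLinearGroup.coe_scalar, Matrix.scalar_apply, ← smul_one_eq_diagonal, smul_mulVec, one_mulVec]
        have e := congrArg (D.cA (GeneralLinearGroup.scalar (Fin (m + 2)) y)) base
        simp only [map_add, cA_qA, hs, qA_scale, mul_one] at e
        exact e
    have e := congrArg (D.cA A) (all t)
    simp only [map_add, cA_qA, mulVec_add, hA0, hA1, hA2] at e
    exact e

/-- The unipotent radical. -/
noncomputable def σ (S : Mn) : G := D.el (Lin D.qA S)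

theorem σ_add (S S' : Mn) : D.σ (S + S') = D.σ S * D.σ S' := by rw [σ, Lin_add, el_add]; rfl

theorem σ_zero : D.σ 0 = 1 := by rw [σ, Lin_zero, el_zero]

theorem σ_neg (S : Mn) : D.σ (-S) = (D.σ S)⁻¹ :=
  eq_inv_of_mul_eq_one_left (by rw [← D.σ_add, neg_add_cancel, D.σ_zero])

theorem σ_sq (v : Vn) (t : F) : D.σ (t • vecMulVec v v) = D.q v t := by rw [σ, Lin_sq D.qFam, el_qA]

theorem σ_conj (A : GLn) {S : Mn} (hS : Sᵀ = S) :
    D.Γ A * D.σ S * (D.Γ A)⁻¹ = D.σ ((A : Mn) * S * (A : Mn)ᵀ) := by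
  rw [σ, σ, ← el_cA]
  congr 1
  exact Lin_conj D.qFam (D.cA A) _ (fun v t => D.cA_qA A v t) hS

end Glue

end Cfsg.Agent.KSG55.Sp
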