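import Cfsg.Agent.Lib.LinearGroup.Generation
import Mathlib

set_option autoImplicit false

/-! Elements of `GL` used in gluing: diagonal, permutation and rank one elements, and generation of two
stabilisers. -/

namespace Cfsg.Agent.KSG55.Sp

open Matrix

variable {F : Type*} [Field F] {n : ℕ}

local notation "𝕄" => Matrix (Fin n) (Fin n) F

/-- A standard vector. -/
abbrev bv (i : Fin n) : Fin n → F := Pi.single i 1

/-- A diagonal element with one entry. -/
def dgl (i : Fin n) : Fˣ →* GL (Fin n) F where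
  toFun d := ⟨diagonal (Function.update 1 i (d : F)), diagonal (Function.update 1 i ((d⁻¹ : Fˣ) : F)), by
    rw [diagonal_mul_diagonal, ← diagonal_one]; congr 1; funext j
    by_cases h : j = i <;> simp [h], by
    rw [diagonal_mul_diagonal, ← diagonal_one]; congr 1; funext j
    by_cases h : j = i <;> simp [h]⟩
  map_one' := by
    apply Units.ext
    show diagonal _ = (1 : 𝕄)
    rw [← diagonal_one]; congr 1; funext j
    by_cases h : j = i <;> simp [h]
  map_mul' a b := by
    apply Units.ext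
    show diagonal _ = diagonal _ * diagonal _
    rw [diagonal_mul_diagonal]; congr 1; funext j
    by_cases h : j = i <;> simp [h]

theorem dgl_coe (i : Fin n) (d : Fˣ) : (dgl i d : 𝕄) = diagonal (Function.update 1 i (d : F)) := rfl

theorem dgl_det (i : Fin n) (d : Fˣ) : (dgl i d : 𝕄).det = d := by
  rw [dgl_coe, det_diagonal, Finset.prod_update_of_mem (Finset.mem_univ i)]
  simp

theorem dgl_mulVec (i : Fin n) (d : Fˣ) (v : Fin n → F) :
    (dgl i d : 𝕄) *ᵥ v = Function.update v i ((d : F) * v i) := by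
  funext j
  rw [dgl_coe, mulVec_diagonal]
  by_cases h : j = i
  · subst h; simp
  · simp [h]

theorem dgl_transpose (i : Fin n) (d : Fˣ) : (dgl i d : 𝕄)ᵀ = (dgl i d : 𝕄) := by
  rw [dgl_coe, diagonal_transpose]

/-- A permutation element. -/
noncomputable def pgl : Equiv.Perm (Fin n) →* GL (Fin n) F where
  toFun s := ⟨(s⁻¹ : Equiv.Perm (Fin n)).permMatrix F, s.permMatrix F,
    by rw [← Matrix.permMatrix_mul, mul_inv_cancel, Matrix.permMatrix_one],
    by rw [← Matrix.permMatrix_mul, inv_mul_cancel, Matrix.permMatrix_one]⟩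
  map_one' := Units.ext (by simp)
  map_mul' s t := Units.ext (by
    show ((s * t)⁻¹ : Equiv.Perm (Fin n)).permMatrix F = (s⁻¹).permMatrix F * (t⁻¹).permMatrix F
    rw [_root_.mul_inv_rev, Matrix.permMatrix_mul])

theorem pgl_coe (s : Equiv.Perm (Fin n)) : ((pgl s : GL (Fin n) F) : 𝕄) = (s⁻¹ : Equiv.Perm (Fin n)).permMatrix F := rfl

theorem pgl_mulVec (s : Equiv.Perm (Fin n)) (v : Fin n → F) : ((pgl s : GL (Fin n) F) : 𝕄) *ᵥ v = v ∘ ⇑s⁻¹ := by
  rw [pgl_coe, permMatrix_mulVec]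

theorem pgl_bv (s : Equiv.Perm (Fin n)) (i : Fin n) : ((pgl s : GL (Fin n) F) : 𝕄) *ᵥ bv i = bv (s i) := by
  funext j
  rw [pgl_mulVec]
  simp only [Function.comp_apply, bv, Pi.single_apply]
  exact if_congr ⟨fun h => by rw [← h]; simp, fun h => by rw [h]; simp⟩ rfl rfl

theorem pgl_transpose (s : Equiv.Perm (Fin n)) : ((pgl s : GL (Fin n) F) : 𝕄)ᵀ = ((pgl s⁻¹ : GL (Fin n) F) : 𝕄) := by
  rw [pgl_coe, pgl_coe, inv_inv, Matrix.transpose_permMatrix, inv_inv]

/-- A rank one element. -/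
def rk1 (u w : Fin n → F) (h : w ⬝ᵥ u = 0) : GL (Fin n) F :=
  ⟨1 + vecMulVec u w, 1 - vecMulVec u w, by
    rw [mul_sub, mul_one, add_mul, one_mul, vecMulVec_mul_vecMulVec, h, zero_smul]
    simp [vecMulVec_zero], by
    rw [sub_mul, one_mul, mul_add, mul_one, vecMulVec_mul_vecMulVec, h, zero_smul]
    simp [vecMulVec_zero]⟩

theorem rk1_coe (u w : Fin n → F) (h : w ⬝ᵥ u = 0) : (rk1 u w h : 𝕄) = 1 + vecMulVec u w := rfl

theorem rk1_mulVec (u w : Fin n → F) (h : w ⬝ᵥ u = 0) (v : Fin n → F) :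
    (rk1 u w h : 𝕄) *ᵥ v = v + (w ⬝ᵥ v) • u := by
  rw [rk1_coe, add_mulVec, one_mulVec, vecMulVec_mulVec]
  simp

theorem rk1_mul_right (u w w' : Fin n → F) (h : w ⬝ᵥ u = 0) (h' : w' ⬝ᵥ u = 0) :
    rk1 u w h * rk1 u w' h' = rk1 u (w + w') (by rw [add_dotProduct, h, h', add_zero]) := by
  apply Units.ext
  rw [Units.val_mul, rk1_coe, rk1_coe, rk1_coe, mul_add, mul_one, add_mul, one_mul, vecMulVec_mul_vecMulVec, h,
    zero_smul, vecMulVec_add]
  simp [vecMulVec_zero, add_assoc]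

/-- An elementary element. -/
noncomputable def egl {i j : Fin n} (h : i ≠ j) (c : F) : GL (Fin n) F :=
  rk1 (Pi.single i c) (bv j) (by simp [h.symm])

theorem egl_coe {i j : Fin n} (h : i ≠ j) (c : F) : (egl h c : 𝕄) = Matrix.transvection i j c := by
  rw [egl, rk1_coe, Matrix.transvection]
  congr 1
  ext a b
  simp only [vecMulVec_apply, bv, Pi.single_apply, Matrix.single_apply]
  by_cases ha : a = i <;> by_cases hb : b = j <;> simp [ha, hb, Ne.symm, eq_comm]

theorem egl_mul {i j : Fin n} (h : i ≠ j) (c c' : F) : egl h c * egl h c' = egl h (c + c') := by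
  apply Units.ext
  rw [Units.val_mul, egl_coe, egl_coe, egl_coe, Matrix.transvection_mul_transvection_same i j h]

theorem egl_zero {i j : Fin n} (h : i ≠ j) : egl h (0 : F) = 1 := by
  apply Units.ext
  rw [egl_coe]; simp

theorem egl_comm {i j k : Fin n} (hij : i ≠ j) (hjk : j ≠ k) (hik : i ≠ k) (c c' : F) :
    egl hij c * egl hjk c' * egl hij (-c) * egl hjk (-c') = egl hik (c * c') := by
  apply Units.ext
  simp only [Units.val_mul, egl_coe, Matrix.transvection, mul_add, add_mul, one_mul, mul_one,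
    Matrix.single_mul_single_same, Matrix.single_mul_single_of_ne _ _ _ _ hjk.symm,
    Matrix.single_mul_single_of_ne _ _ _ _ hik.symm, Matrix.single_mul_single_of_ne _ _ _ _ hij.symm,
    ← Matrix.single_neg, mul_neg, neg_mul, zero_mul, mul_zero, add_zero, neg_zero]
  abel

/-- Conjugating a rank one element. -/
theorem conj_rk1 (A : GL (Fin n) F) (u w : Fin n → F) (h : w ⬝ᵥ u = 0)
    (h' : (w ᵥ* ((A⁻¹ : GL (Fin n) F) : 𝕄)) ⬝ᵥ ((A : 𝕄) *ᵥ u) = 0) :
    A * rk1 u w h * A⁻¹ = rk1 ((A : 𝕄) *ᵥ u) (w ᵥ* ((A⁻¹ : GL (Fin n) F) : 𝕄)) h' := by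
  apply Units.ext
  rw [Units.val_mul, Units.val_mul, rk1_coe, rk1_coe, mul_add, mul_one, add_mul, ← Units.val_mul A A⁻¹,
    mul_inv_cancel, Units.val_one, mul_vecMulVec, vecMulVec_mul]

theorem dgl_conj_egl {i j k : Fin n} (h : i ≠ j) (d : Fˣ) (c : F) :
    dgl k d * egl h c * (dgl k d)⁻¹ =
      egl h ((if i = k then (d : F) else 1) * c * (if j = k then ((d⁻¹ : Fˣ) : F) else 1)) := by
  rw [mul_inv_eq_iff_eq_mul]
  apply Units.ext
  ext a b
  simp only [Units.val_mul, egl_coe, dgl_coe, Matrix.diagonal_mul, Matrix.mul_diagonal, Matrix.transvection,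
    Matrix.add_apply, Matrix.single_apply, Matrix.one_apply, Function.update_apply, Pi.one_apply]
  by_cases h1 : i = a ∧ j = b
  · obtain ⟨rfl, rfl⟩ := h1
    by_cases h2 : i = k <;> by_cases h3 : j = k
    · exact absurd (h2.trans h3.symm) h
    · subst h2; simp [h, h3]
    · subst h3; simp [h]
    · simp [h, h2, h3]
  · by_cases h4 : a = b
    · subst h4; simp [h1]
    · simp [h1, h4]

theorem pgl_conj_egl (s : Equiv.Perm (Fin n)) {i j : Fin n} (h : i ≠ j) (c : F) :
    pgl s * egl h c * (pgl s)⁻¹ = egl (show s i ≠ s j from fun e => h (s.injective e)) c := by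
  rw [mul_inv_eq_iff_eq_mul]
  apply Units.ext
  rw [Units.val_mul, Units.val_mul]
  refine Matrix.ext_of_mulVec_single fun b => ?_
  show (((pgl s : GL (Fin n) F) : 𝕄) * (egl h c : 𝕄)) *ᵥ bv b =
    ((egl (show s i ≠ s j from fun e => h (s.injective e)) c : 𝕄) * ((pgl s : GL (Fin n) F) : 𝕄)) *ᵥ bv b
  rw [← mulVec_mulVec, ← mulVec_mulVec, egl, rk1_mulVec, egl, pgl_bv, rk1_mulVec, mulVec_add, mulVec_smul, pgl_bv]
  congr 1
  have e : ((pgl s : GL (Fin n) F) : 𝕄) *ᵥ Pi.single i c = Pi.single (s i) c := by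
    funext a
    rw [pgl_mulVec]
    simp only [Function.comp_apply, Pi.single_apply]
    exact if_congr ⟨fun h => by rw [← h]; simp, fun h => by rw [h]; simp⟩ rfl rfl
  rw [e]
  congr 1
  simp only [bv, single_one_dotProduct, Pi.single_apply]
  exact if_congr (by simp) rfl rfl

theorem pgl_conj_dgl (s : Equiv.Perm (Fin n)) (k : Fin n) (d : Fˣ) :
    pgl s * dgl k d * (pgl s)⁻¹ = dgl (s k) d := by
  rw [mul_inv_eq_iff_eq_mul]
  apply Units.ext
  rw [Units.val_mul, Units.val_mul]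
  refine Matrix.ext_of_mulVec_single fun b => ?_
  show (((pgl s : GL (Fin n) F) : 𝕄) * (dgl k d : 𝕄)) *ᵥ bv b =
    ((dgl (s k) d : 𝕄) * ((pgl s : GL (Fin n) F) : 𝕄)) *ᵥ bv b
  rw [← mulVec_mulVec, ← mulVec_mulVec, dgl_mulVec, pgl_bv, dgl_mulVec, pgl_mulVec]
  funext a
  simp only [Function.comp_apply, Function.update_apply, bv, Pi.single_apply]
  have e : ∀ y, s⁻¹ a = y ↔ a = s y := fun y =>
    ⟨fun h => by rw [← h]; simp, fun h => by rw [h]; simp⟩
  simp only [e, s.injective.eq_iff]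

/-! Generation. -/

/-- A subgroup with all elementary elements and one diagonal family is everything. -/
theorem gl_eq_top {H : Subgroup (GL (Fin n) F)} (k : Fin n) (hd : ∀ d, dgl k d ∈ H)
    (he : ∀ (i j : Fin n) (h : i ≠ j) (c : F), egl h c ∈ H) : H = ⊤ := by
  have h1 : ∀ B : SpecialLinearGroup (Fin n) F, SpecialLinearGroup.toGL B ∈ H := by
    have := LinearGroup.eq_top_of_transvection_mem
      (H := H.comap (SpecialLinearGroup.toGL (n := Fin n) (R := F))) fun i j h c => by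
      rw [Subgroup.mem_comap]
      have e : SpecialLinearGroup.toGL (SpecialLinearGroup.transvection h c) = egl h c :=
        Units.ext (by rw [egl_coe]; rfl)
      rw [e]; exact he i j h c
    intro B
    exact (Subgroup.eq_top_iff' _).mp this B
  rw [Subgroup.eq_top_iff']
  intro A
  let d := Matrix.GeneralLinearGroup.det A
  have hdet : ((A * (dgl k d)⁻¹ : GL (Fin n) F) : 𝕄).det = 1 := by
    rw [← map_inv, Units.val_mul, det_mul, dgl_det]
    exact d.mul_inv
  have e : A = SpecialLinearGroup.toGL ⟨_, hdet⟩ * dgl k d := by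
    rw [show SpecialLinearGroup.toGL ⟨_, hdet⟩ = A * (dgl k d)⁻¹ from Units.ext rfl, inv_mul_cancel_right]
  rw [e]
  exact mul_mem (h1 _) (hd d)

/-- An invertible matrix with a prescribed column. -/
theorem isUnit_updateCol {k : Fin n} {x : Fin n → F} (hx : x k ≠ 0) :
    IsUnit ((1 : 𝕄).updateCol k x).det := by
  rw [← Matrix.cramer_apply, Matrix.cramer_one, Module.End.one_apply]
  exact isUnit_iff_ne_zero.mpr hx

/-- The same element. -/
noncomputable def cgl (k : Fin n) (x : Fin n → F) (hx : x k ≠ 0) : GL (Fin n) F :=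
  GeneralLinearGroup.mk'' ((1 : 𝕄).updateCol k x) (isUnit_updateCol hx)

theorem cgl_coe (k : Fin n) (x : Fin n → F) (hx : x k ≠ 0) :
    (cgl k x hx : 𝕄) = (1 : 𝕄).updateCol k x := rfl

theorem cgl_self (k : Fin n) (x : Fin n → F) (hx : x k ≠ 0) : (cgl k x hx : 𝕄) *ᵥ bv k = x := by
  funext a; simp [cgl_coe, bv]

theorem cgl_ne (k : Fin n) (x : Fin n → F) (hx : x k ≠ 0) {b : Fin n} (hb : b ≠ k) :
    (cgl k x hx : 𝕄) *ᵥ bv b = bv b := by
  funext a; simp [cgl_coe, bv, hb, Matrix.one_apply, Pi.single_apply]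

end Cfsg.Agent.KSG55.Sp
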