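import Cfsg.Agent.KSG55.Sp.ModelRels
import Cfsg.Agent.KSG55.Pres.HomOf
import Cfsg.Agent.Lib.Symplectic.Basic

set_option autoImplicit false

/-! Presentations of symplectic groups from presentations of special linear groups. -/

namespace Cfsg.Agent.KSG55.Sp

open Matrix Cfsg.Agent.KSG55.Lin Cfsg.Agent.KSG55.Pres

variable {F : Type*} [Field F] {m : ℕ}

local notation "GLn" => GL (Fin (m + 2)) F
local notation "Mn" => Matrix (Fin (m + 2)) (Fin (m + 2)) F
local notation "SpN" => SpG (m + 2) F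

/-- The two factors generate the symplectic group. -/
theorem sp_gen [Finite F] :
    (θM (F := F) (m := m)).range ⊔ (kM (F := F) (n := m + 2)).range = ⊤ := by
  classical
  set K := (θM (F := F) (m := m)).range ⊔ (kM (F := F) (n := m + 2)).range with hK
  have hg : ∀ A : GLn, (gM A : SpN) ∈ K := fun A => by
    rw [← γe_model]
    exact mul_mem (Subgroup.mem_sup_left ⟨_, rfl⟩) (Subgroup.mem_sup_right ⟨_, rfl⟩)
  have hsq : ∀ (v : Fin (m + 2) → F) (t : F),
      ∃ h, (sM (t • vecMulVec v v : Mn) h : SpN) ∈ K := by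
    intro v t
    refine ⟨by rw [transpose_smul, transpose_vecMulVec], ?_⟩
    rcases eq_or_ne v 0 with rfl | hv
    · convert one_mem K
      apply Subtype.ext; rw [sM_coe]; simp
    obtain ⟨A, hA⟩ := exists_col0 hv
    rw [← Ve_model A t hA]
    exact mul_mem (mul_mem (γe_model A ▸ hg A) (Subgroup.mem_sup_right ⟨_, rfl⟩)) (inv_mem (γe_model A ▸ hg A))
  let Y : AddSubgroup Mn :=
    { carrier := {S | ∃ h, (sM S h : SpN) ∈ K}
      zero_mem' := ⟨transpose_zero, by convert one_mem K; apply Subtype.ext; rw [sM_coe]; simp⟩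
      add_mem' := by
        rintro S S' ⟨h, hS⟩ ⟨h', hS'⟩
        exact ⟨by rw [transpose_add, h, h'], by rw [← sM_mul S S' h h']; exact mul_mem hS hS'⟩
      neg_mem' := by
        rintro S ⟨h, hS⟩
        refine ⟨by rw [transpose_neg, h], ?_⟩
        convert inv_mem hS using 1
        refine (inv_eq_of_mul_eq_one_right ?_).symm
        rw [sM_mul]; apply Subtype.ext; rw [sM_coe]; simp }
  have hsym : ∀ S : Mn, Sᵀ = S → S ∈ Y := fun S hS => by
    rw [sym_decomp hS]
    exact add_mem (sum_mem fun i _ => hsq _ _) (sum_mem fun p _ => hsq _ _)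
  set e0 : Symplectic.Vec (m + 2) F := Symplectic.eI 0
  have act : ∀ (g : SpN) v, g • v = g.1 *ᵥ v := fun g v => Symplectic.smul_eq g v
  have hgA : ∀ (A : GLn) (x y : Fin (m + 2) → F), (gM A : SpN) • (Sum.elim x y : Symplectic.Vec (m + 2) F) =
      Sum.elim ((A : Mn) *ᵥ x) (((A⁻¹ : GLn) : Mn)ᵀ *ᵥ y) := fun A x y => by
    rw [act, gM_coe, fromBlocks_mulVec]; simp
  have he0 : e0 = Sum.elim (bv 0) 0 := by
    funext i; rcases i with i | i <;> simp [e0, Symplectic.eI, bv, Pi.single_apply]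
  have orb : ∀ v : Symplectic.Vec (m + 2) F, v ≠ 0 → ∃ g ∈ K, g • e0 = v := by
    intro v hv
    have hvs : v = Sum.elim (v ∘ Sum.inl) (v ∘ Sum.inr) := (Sum.elim_comp_inl_inr v).symm
    by_cases hy : v ∘ Sum.inr = 0
    · have hx : v ∘ Sum.inl ≠ 0 := fun h => hv (by rw [hvs, hy, h]; funext i; rcases i with i | i <;> rfl)
      obtain ⟨A, hA⟩ := exists_col0 hx
      refine ⟨gM A, hg A, ?_⟩
      conv_rhs => rw [hvs, hy]
      rw [he0, hgA, hA, mulVec_zero]
    · obtain ⟨B, hB⟩ := exists_col0 hy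
      set A : GLn := ⟨((B⁻¹ : GLn) : Mn)ᵀ, (B : Mn)ᵀ,
        by rw [← transpose_mul, ← Units.val_mul, mul_inv_cancel, Units.val_one, transpose_one],
        by rw [← transpose_mul, ← Units.val_mul, inv_mul_cancel, Units.val_one, transpose_one]⟩ with hAdef
      set x := ((A⁻¹ : GLn) : Mn) *ᵥ (v ∘ Sum.inl)
      set S : Mn := vecMulVec x (bv 0) + vecMulVec (bv 0) x - x 0 • vecMulVec (bv 0) (bv 0)
      have hSs : Sᵀ = S := by
        simp [S, transpose_vecMulVec]; abel
      obtain ⟨h, hS⟩ := hsym S hSs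
      refine ⟨gM A * (sM S h * (kM mT)⁻¹), mul_mem (hg A) (mul_mem hS (inv_mem (Subgroup.mem_sup_right ⟨_, rfl⟩))), ?_⟩
      have hT : (kM mT : SpN) • (Sum.elim 0 (bv 0) : Symplectic.Vec (m + 2) F) = e0 := by
        rw [act, kM_coe, fromBlocks_mulVec, he0, Sum.elim_comp_inl, Sum.elim_comp_inr]
        simp only [mT_coe, of_apply, cons_val_zero, cons_val_one, mulVec_zero, zero_add]
        congr 1
        · rw [single_bv, one_smul, vecMulVec_mulVec]; simp [bv]
        · funext a
          rw [d0, mulVec_diagonal]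
          by_cases ha : a = 0
          · subst ha; simp
          · simp [bv, ha]
      rw [mul_smul, mul_smul, ← hT, inv_smul_smul]
      have hS0 : S *ᵥ bv 0 = x := by
        simp only [S, sub_mulVec, add_mulVec, smul_mulVec, vecMulVec_mulVec]
        simp [bv]
      have : (sM S h : SpN) • (Sum.elim 0 (bv 0) : Symplectic.Vec (m + 2) F) = Sum.elim x (bv 0) := by
        rw [act, sM_coe, fromBlocks_mulVec, Sum.elim_comp_inl, Sum.elim_comp_inr, one_mulVec, one_mulVec, zero_mulVec,
          hS0, zero_add, zero_add]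
      rw [this, hgA]
      conv_rhs => rw [hvs]
      congr 1
      · simp [x, mulVec_mulVec]
  have htv : ∀ c : F, Symplectic.tv e0 c ∈ K := fun c => by
    have : Symplectic.tv e0 c = (kM (mU c) : SpN) := Symplectic.eq_of_smul_eq fun v => by
      rw [Symplectic.tv_smul, Symplectic.sympForm_eI_right, kM_mU, act, sM_coe, fromBlocks_mulVec]
      funext i
      rcases i with i | i
      · simp [e0, Symplectic.eI, Pi.single_apply, mulVec, dotProduct, single_apply, eq_comm, ite_and]
      · simp [e0, Symplectic.eI]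
    rw [this]; exact Subgroup.mem_sup_right ⟨_, rfl⟩
  rw [eq_top_iff, ← Symplectic.tvGroup_empty]
  refine (Subgroup.closure_le _).mpr ?_
  rintro _ ⟨w, -, c, rfl⟩
  rcases eq_or_ne w 0 with rfl | hw
  · have : Symplectic.tv (0 : Symplectic.Vec (m + 2) F) c = 1 := Symplectic.eq_of_smul_eq fun v => by
      rw [Symplectic.tv_smul, smul_zero, add_zero, one_smul]
    rw [this]; exact one_mem K
  obtain ⟨g, hgK, rfl⟩ := orb w hw
  rw [← Symplectic.conj_tv]
  exact mul_mem (mul_mem hgK (htv c)) (inv_mem hgK)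

end Cfsg.Agent.KSG55.Sp
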