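import Cfsg.Agent.KSG55.Sp.Main

set_option autoImplicit false

/-! The glued presentation. -/

namespace Cfsg.Agent.KSG55.Sp

open Matrix Cfsg.Agent.KSG55.Lin Cfsg.Agent.KSG55.Pres

variable {F : Type*} [Field F] [Finite F] {m : ℕ}

local notation "SLn" => SpecialLinearGroup (Fin (m + 2)) F
local notation "SpN" => SpG (m + 2) F

/-- From presentations of the two factors. -/
theorem presOn_glue {a : Fˣ} (ha : ∀ x : Fˣ, x ∈ Submonoid.powers a) {k r l s : ℕ}
    {gensθ : Fin k → SLn} (hθ : PresOn gensθ r) {gensκ : Fin l → SpecialLinearGroup (Fin 2) F}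
    (hκ : PresOn gensκ s) :
    PresOn (Fin.append (fun i => θM (gensθ i)) (fun i => (kM (gensκ i) : SpN)))
      (r + s + k + (if 1 ≤ m then 13 else 10)) := by
  classical
  obtain ⟨Lθ, hLθ, hLθrel, hLθtop, hLθhom⟩ := hθ.exists_hom
  obtain ⟨Lκ, hLκ, hLκrel, hLκtop, hLκhom⟩ := hκ.exists_hom
  set gensN := Fin.append (fun i => θM (gensθ i)) (fun i => (kM (gensκ i) : SpN)) with hgensN
  let cθ : FreeGroup (Fin k) →* FreeGroup (Fin (k + l)) := FreeGroup.map (Fin.castAdd l)
  let cκ : FreeGroup (Fin l) →* FreeGroup (Fin (k + l)) := FreeGroup.map (Fin.natAdd k)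
  have hwθ : ∀ x, ∃ W, FreeGroup.lift gensθ W = x := fun x => by
    rw [← MonoidHom.mem_range, FreeGroup.range_lift_eq_closure, hLθtop]; trivial
  choose Wθ hWθ using hwθ
  have hwκ : ∀ x, ∃ W, FreeGroup.lift gensκ W = x := fun x => by
    rw [← MonoidHom.mem_range, FreeGroup.range_lift_eq_closure, hLκtop]; trivial
  choose Wκ hWκ using hwκ
  let zθ : SLn → FreeGroup (Fin (k + l)) := fun x => cθ (Wθ x)
  let zκ : SpecialLinearGroup (Fin 2) F → FreeGroup (Fin (k + l)) := fun x => cκ (Wκ x)
  let Rc : Fin k → FreeGroup (Fin (k + l)) := fun i =>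
    zκ (mH a) * zθ (gensθ i) * (zκ (mH a))⁻¹ * (zθ (conjD a (gensθ i)))⁻¹
  let rels := Lθ.map cθ ++ Lκ.map cκ ++ List.ofFn Rc ++ (relPairs zθ zκ a).map (fun p => p.1 * p.2⁻¹)
  have hlen : rels.length ≤ r + s + k + (if 1 ≤ m then 13 else 10) := by
    have := relPairs_length zθ zκ a
    simp only [rels, List.length_append, List.length_map, List.length_ofFn]
    omega
  -- evaluation of words
  have mθ : ∀ w, FreeGroup.lift gensN (cθ w) = θM (FreeGroup.lift gensθ w) := fun w =>
    DFunLike.congr_fun (FreeGroup.ext_hom ((FreeGroup.lift gensN).comp cθ) (θM.comp (FreeGroup.lift gensθ))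
      fun i => by simp [cθ, hgensN]) w
  have mκ : ∀ w, FreeGroup.lift gensN (cκ w) = kM (FreeGroup.lift gensκ w) := fun w =>
    DFunLike.congr_fun (FreeGroup.ext_hom ((FreeGroup.lift gensN).comp cκ) (kM.comp (FreeGroup.lift gensκ))
      fun i => by simp [cκ, hgensN]) w
  have ezθ : (fun x => FreeGroup.lift gensN (zθ x)) = ⇑(θM (F := F) (m := m)) := funext fun x => by
    simp only [zθ, mθ, hWθ]
  have ezκ : (fun x => FreeGroup.lift gensN (zκ x)) = fun M => (kM M : SpN) := funext fun x => by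
    simp only [zκ, mκ, hWκ]
  refine presOn_of_inj gensN rels hlen ?_ ?_ ?_
  · intro w hw
    have M := model_rels (F := F) (m := m) a
    simp only [rels, List.mem_append, List.mem_map, List.mem_ofFn] at hw
    rcases hw with ((⟨w, hw, rfl⟩ | ⟨w, hw, rfl⟩) | ⟨i, rfl⟩) | ⟨p, hp, rfl⟩
    · rw [mθ, hLθrel w hw, map_one]
    · rw [mκ, hLκrel w hw, map_one]
    · simp only [Rc, zθ, zκ, map_mul, map_inv, mθ, mκ, hWθ, hWκ, mul_inv_eq_one]
      exact M.conjH _
    · rw [map_mul, map_inv, mul_inv_eq_one]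
      have hmem : ((FreeGroup.lift gensN) p.1, (FreeGroup.lift gensN) p.2) ∈
          relPairs ⇑(θM (F := F) (m := m)) (fun M => (kM M : SpN)) a := by
        rw [← ezθ, ← ezκ, ← map_relPairs]
        exact List.mem_map.mpr ⟨p, hp, rfl⟩
      have hall : ∀ q ∈ relPairs ⇑(θM (F := F) (m := m)) (fun M => (kM M : SpN)) a, q.1 = q.2 := by
        intro q hq
        unfold relPairs at hq
        by_cases hm : 1 ≤ m
        · rw [dif_pos hm] at hq
          simp only [List.cons_append, List.nil_append, List.mem_cons, List.not_mem_nil, or_false] at hq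
          rcases hq with rfl | rfl | rfl | rfl | rfl | rfl | rfl | rfl | rfl | rfl | rfl | rfl | rfl
          exacts [M.uX, M.uC, M.uD, M.tC, M.tD, M.uu, M.tu, M.tt, M.ty, M.two, M.uX' hm _, M.tX' hm _, M.three hm]
        · rw [dif_neg hm] at hq
          simp only [List.cons_append, List.nil_append, List.mem_cons, List.not_mem_nil, or_false] at hq
          rcases hq with rfl | rfl | rfl | rfl | rfl | rfl | rfl | rfl | rfl | rfl
          exacts [M.uX, M.uC, M.uD, M.tC, M.tD, M.uu, M.tu, M.tt, M.ty, M.two]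
      exact hall _ hmem
  · rw [eq_top_iff, ← sp_gen (F := F) (m := m)]
    refine sup_le ?_ ?_
    · rw [MonoidHom.range_eq_map, ← hLθtop, MonoidHom.map_closure, Subgroup.closure_le]
      rintro _ ⟨_, ⟨i, rfl⟩, rfl⟩
      exact Subgroup.subset_closure ⟨Fin.castAdd l i, by simp [hgensN]⟩
    · rw [MonoidHom.range_eq_map, ← hLκtop, MonoidHom.map_closure, Subgroup.closure_le]
      rintro _ ⟨_, ⟨i, rfl⟩, rfl⟩
      exact Subgroup.subset_closure ⟨Fin.natAdd k i, by simp [hgensN]⟩
  · intro H _ U φ hU hrel hφ x hx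
    have hliftθ : ∀ w, FreeGroup.lift (fun i => U (Fin.castAdd l i)) w = FreeGroup.lift U (cθ w) := fun w =>
      DFunLike.congr_fun (FreeGroup.ext_hom _ ((FreeGroup.lift U).comp cθ) fun i => by simp [cθ]) w
    have hliftκ : ∀ w, FreeGroup.lift (fun i => U (Fin.natAdd k i)) w = FreeGroup.lift U (cκ w) := fun w =>
      DFunLike.congr_fun (FreeGroup.ext_hom _ ((FreeGroup.lift U).comp cκ) fun i => by simp [cκ]) w
    have hmem : ∀ w, w ∈ Lθ.map cθ ++ Lκ.map cκ → w ∈ rels := fun w hw =>
      List.mem_append_left _ (List.mem_append_left _ hw)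
    obtain ⟨θ, hθg⟩ := hLθhom H (fun i => U (Fin.castAdd l i)) fun w hw => by
      rw [hliftθ]; exact hrel _ (hmem _ (List.mem_append_left _ (List.mem_map_of_mem hw)))
    obtain ⟨κ, hκg⟩ := hLκhom H (fun i => U (Fin.natAdd k i)) fun w hw => by
      rw [hliftκ]; exact hrel _ (hmem _ (List.mem_append_right _ (List.mem_map_of_mem hw)))
    have hθw : ∀ x, θ x = FreeGroup.lift U (zθ x) := fun x => by
      simp only [zθ]
      rw [← hliftθ]
      conv_lhs => rw [← hWθ x]
      exact DFunLike.congr_fun (FreeGroup.ext_hom (θ.comp (FreeGroup.lift gensθ))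
        (FreeGroup.lift fun i => U (Fin.castAdd l i)) fun i => by simp [hθg]) (Wθ x)
    have hκw : ∀ x, κ x = FreeGroup.lift U (zκ x) := fun x => by
      simp only [zκ]
      rw [← hliftκ]
      conv_lhs => rw [← hWκ x]
      exact DFunLike.congr_fun (FreeGroup.ext_hom (κ.comp (FreeGroup.lift gensκ))
        (FreeGroup.lift fun i => U (Fin.natAdd k i)) fun i => by simp [hκg]) (Wκ x)
    have hR : Rels (H := H) ⇑θ ⇑κ a := by
      refine rels_of_pairs _ _ _ (fun B => ?_) fun p hp => ?_
      · have hgen : ∀ i, κ (mH a) * θ (gensθ i) * (κ (mH a))⁻¹ = θ (conjD a (gensθ i)) := fun i => by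
          have h1 := hrel (Rc i) (List.mem_append_left _ (List.mem_append_right _ (by
            rw [List.mem_ofFn]; exact ⟨i, rfl⟩)))
          simp only [Rc, map_mul, map_inv, mul_inv_eq_one, ← hθw, ← hκw] at h1
          exact h1
        let cD : SLn →* SLn :=
          { toFun := conjD a
            map_one' := toGL_inj (by rw [toGL_conjD, map_one, mul_one, mul_inv_cancel])
            map_mul' := fun x y => toGL_inj (by
              rw [toGL_conjD, map_mul, map_mul, toGL_conjD, toGL_conjD]; group) }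
        refine DFunLike.congr_fun (MonoidHom.eq_of_eqOn_dense hLθtop
          (f := (MulAut.conj (κ (mH a))).toMonoidHom.comp θ) (g := θ.comp cD) ?_) B
        rintro _ ⟨i, rfl⟩
        exact hgen i
      · rw [show (⇑θ : SLn → H) = fun x => FreeGroup.lift U (zθ x) from funext hθw,
          show (⇑κ : _ → H) = fun x => FreeGroup.lift U (zκ x) from funext hκw, ← map_relPairs] at hp
        obtain ⟨q, hq, rfl⟩ := List.mem_map.mp hp
        have h1 := hrel _ (List.mem_append_right _ (List.mem_map_of_mem (f := fun p => p.1 * p.2⁻¹) hq))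
        rw [map_mul, map_inv, mul_inv_eq_one] at h1
        exact h1
    let D : Glue F m H := ⟨θ, κ, a, ha, hR⟩
    refine glue_inj D φ (fun B => ?_) (fun M => ?_) ?_ x hx
    · refine DFunLike.congr_fun (MonoidHom.eq_of_eqOn_dense hLθtop (f := φ.comp θ) (g := θM) ?_) B
      rintro _ ⟨i, rfl⟩
      simp [hθg, hφ, hgensN]
    · refine DFunLike.congr_fun (MonoidHom.eq_of_eqOn_dense hLκtop (f := φ.comp κ) (g := kM) ?_) M
      rintro _ ⟨i, rfl⟩
      simp [hκg, hφ, hgensN]
    · rw [eq_top_iff, ← hU, Subgroup.closure_le]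
      rintro _ ⟨i, rfl⟩
      induction i using Fin.addCases with
      | left i => exact Subgroup.mem_sup_left ⟨gensθ i, hθg i⟩
      | right i => exact Subgroup.mem_sup_right ⟨gensκ i, hκg i⟩

end Cfsg.Agent.KSG55.Sp
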