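import Cfsg.Agent.KSG55.Sp.Stab
import Cfsg.Agent.KSG55.Lin.SL2Mat

set_option autoImplicit false

/-! The relations gluing a special linear group and a long root `SL₂` into a symplectic group. -/

namespace Cfsg.Agent.KSG55.Sp

open Matrix Cfsg.Agent.KSG55.Lin

variable {F : Type*} [Field F] {m : ℕ}

/-- The determinant normalisation. -/
noncomputable def toSL (A : GL (Fin (m + 2)) F) : SpecialLinearGroup (Fin (m + 2)) F :=
  ⟨((A * (dgl 0 (GeneralLinearGroup.det A))⁻¹ : GL (Fin (m + 2)) F) : Matrix (Fin (m + 2)) (Fin (m + 2)) F), by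
    rw [← map_inv, Units.val_mul, det_mul, dgl_det]
    exact (GeneralLinearGroup.det A).mul_inv⟩

theorem toGL_toSL (A : GL (Fin (m + 2)) F) :
    SpecialLinearGroup.toGL (toSL A) = A * (dgl 0 (GeneralLinearGroup.det A))⁻¹ := Units.ext rfl

theorem toGL_inj : Function.Injective
    (SpecialLinearGroup.toGL : SpecialLinearGroup (Fin (m + 2)) F → GL (Fin (m + 2)) F) := fun _ _ h =>
  Subtype.ext (congrArg Units.val h)

/-- Conjugation by a diagonal element. -/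
noncomputable def conjD (d : Fˣ) (B : SpecialLinearGroup (Fin (m + 2)) F) : SpecialLinearGroup (Fin (m + 2)) F :=
  ⟨((dgl 0 d * SpecialLinearGroup.toGL B * (dgl 0 d)⁻¹ : GL (Fin (m + 2)) F) :
    Matrix (Fin (m + 2)) (Fin (m + 2)) F), by
    rw [Units.val_mul, Units.val_mul, det_units_conj]
    exact B.2⟩

theorem toGL_conjD (d : Fˣ) (B : SpecialLinearGroup (Fin (m + 2)) F) :
    SpecialLinearGroup.toGL (conjD d B) = dgl 0 d * SpecialLinearGroup.toGL B * (dgl 0 d)⁻¹ := Units.ext rfl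

variable {H : Type*} [Group H] (θ : SpecialLinearGroup (Fin (m + 2)) F → H)
  (κ : SpecialLinearGroup (Fin 2) F → H)

/-- The expression of an element of `GL`. -/
noncomputable def γe (A : GL (Fin (m + 2)) F) : H := θ (toSL A) * κ (mH (GeneralLinearGroup.det A))

/-- A conjugate of a root element. -/
noncomputable def Ve (A : GL (Fin (m + 2)) F) (t : F) : H := γe θ κ A * κ (mU t) * (γe θ κ A)⁻¹

/-- The exchange of the first two coordinates. -/
noncomputable def sw01 : GL (Fin (m + 2)) F := pgl (Equiv.swap 0 1)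

/-- A lower elementary element. -/
noncomputable def x10 : GL (Fin (m + 2)) F := egl (show (1 : Fin (m + 2)) ≠ 0 from Fin.zero_ne_one.symm) 1

/-- Elements with prescribed first column. -/
noncomputable def colE (x : Fin (m + 2) → F) : GL (Fin (m + 2)) F :=
  cgl 0 (Function.update x 0 1) (by simp)

/-- The relations. -/
structure Rels (a : Fˣ) : Prop where
  conjH : ∀ B, κ (mH a) * θ B * (κ (mH a))⁻¹ = θ (conjD a B)
  uX : Commute (γe θ κ (egl (show (0 : Fin (m + 2)) ≠ 1 from Fin.zero_ne_one) 1)) (κ (mU 1))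
  uC : Commute (γe θ κ (pgl (cyc m))) (κ (mU 1))
  uD : Commute (γe θ κ (dgl 1 a)) (κ (mU 1))
  uX' : 1 ≤ m → ∀ h : (1 : Fin (m + 2)) ≠ 2, Commute (γe θ κ (egl h 1)) (κ (mU 1))
  tC : Commute (γe θ κ (pgl (cyc m))) (κ mT)
  tD : Commute (γe θ κ (dgl 1 a)) (κ mT)
  tX' : 1 ≤ m → ∀ h : (1 : Fin (m + 2)) ≠ 2, Commute (γe θ κ (egl h 1)) (κ mT)
  uu : Commute (κ (mU 1)) (Ve θ κ sw01 1)
  tu : Commute (κ mT) (Ve θ κ sw01 1)
  tt : Commute (κ mT) (γe θ κ sw01 * κ mT * (γe θ κ sw01)⁻¹)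
  ty : κ mT * γe θ κ x10 * (κ mT)⁻¹ = κ (mU 1) * Ve θ κ sw01 1 * Ve θ κ x10 (-1)
  two : γe θ κ (dgl 0 a) * (Ve θ κ x10 1 * κ (mU (-1)) * Ve θ κ sw01 (-1)) * (γe θ κ (dgl 0 a))⁻¹ =
    Ve θ κ x10 (a : F) * κ (mU (-(a : F))) * Ve θ κ sw01 (-(a : F))
  three : 1 ≤ m →
    Ve θ κ (colE (bv 1 + bv 2)) 1 * κ (mU 1) * Ve θ κ sw01 1 * Ve θ κ (pgl (Equiv.swap 0 2)) 1 =
      Ve θ κ x10 1 * Ve θ κ (colE (bv 2)) 1 * Ve θ κ (pgl (Equiv.swap 0 1 * Equiv.swap 1 2) * x10) 1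

end Cfsg.Agent.KSG55.Sp
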