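import Cfsg.Agent.KSG55.Sp.GL

set_option autoImplicit false

/-! Generation of the stabilisers of a vector and of a decomposition in `GL`. -/

namespace Cfsg.Agent.KSG55.Sp

open Matrix Fin.NatCast

variable {F : Type*} [Field F] {m : ℕ}

/-- The rotation of all points but the first. -/
def cyc (m : ℕ) : Equiv.Perm (Fin (m + 2)) := Equiv.Perm.decomposeFin.symm (0, finRotate (m + 1))

theorem cyc_zero : cyc m 0 = 0 := Equiv.Perm.decomposeFin_symm_apply_zero _ _

theorem cyc_succ (i : Fin (m + 1)) : cyc m i.succ = (i + 1).succ := by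
  rw [cyc, Equiv.Perm.decomposeFin_symm_apply_succ, finRotate_succ_apply, Equiv.swap_self]
  rfl

/-- The block on the last coordinates. -/
def blkM (A : Matrix (Fin (m + 1)) (Fin (m + 1)) F) : Matrix (Fin (m + 2)) (Fin (m + 2)) F :=
  Matrix.of fun i j => Fin.cases (Fin.cases (1 : F) (fun _ => 0) j) (fun i' => Fin.cases 0 (A i') j) i

theorem blkM_zero_zero (A : Matrix (Fin (m + 1)) (Fin (m + 1)) F) : blkM A 0 0 = 1 := rfl
theorem blkM_zero_succ (A : Matrix (Fin (m + 1)) (Fin (m + 1)) F) (j) : blkM A 0 (Fin.succ j) = 0 := rfl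
theorem blkM_succ_zero (A : Matrix (Fin (m + 1)) (Fin (m + 1)) F) (i) : blkM A (Fin.succ i) 0 = 0 := rfl
theorem blkM_succ_succ (A : Matrix (Fin (m + 1)) (Fin (m + 1)) F) (i j) :
    blkM A (Fin.succ i) (Fin.succ j) = A i j := rfl

theorem blkM_one : blkM (1 : Matrix (Fin (m + 1)) (Fin (m + 1)) F) = 1 := by
  ext i j
  induction i using Fin.cases with
  | zero => induction j using Fin.cases with
    | zero => rw [blkM_zero_zero, one_apply_eq]
    | succ j => rw [blkM_zero_succ, one_apply_ne (Fin.succ_ne_zero j).symm]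
  | succ i => induction j using Fin.cases with
    | zero => rw [blkM_succ_zero, one_apply_ne (Fin.succ_ne_zero i)]
    | succ j => rw [blkM_succ_succ]; simp [one_apply]

theorem blkM_mul (A B : Matrix (Fin (m + 1)) (Fin (m + 1)) F) : blkM (A * B) = blkM A * blkM B := by
  ext i j
  rw [mul_apply, Fin.sum_univ_succ]
  induction i using Fin.cases with
  | zero => induction j using Fin.cases with
    | zero => simp [blkM_zero_zero, blkM_zero_succ]
    | succ j => simp [blkM_zero_zero, blkM_zero_succ]
  | succ i => induction j using Fin.cases with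
    | zero => simp [blkM_succ_zero]
    | succ j => simp [blkM_succ_zero, blkM_succ_succ, mul_apply]

/-- The same on invertible matrices. -/
def blk : GL (Fin (m + 1)) F →* GL (Fin (m + 2)) F :=
  Units.map { toFun := blkM, map_one' := blkM_one, map_mul' := blkM_mul }

theorem blk_coe (A : GL (Fin (m + 1)) F) :
    (blk A : Matrix (Fin (m + 2)) (Fin (m + 2)) F) = blkM (A : Matrix (Fin (m + 1)) (Fin (m + 1)) F) := rfl

theorem blk_dgl (d : Fˣ) : blk (dgl (0 : Fin (m + 1)) d) = dgl 1 d := by
  apply Units.ext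
  rw [blk_coe, dgl_coe, dgl_coe]
  ext i j
  rw [diagonal_apply]
  induction i using Fin.cases with
  | zero => induction j using Fin.cases with
    | zero => simp [blkM_zero_zero]
    | succ j => simp [blkM_zero_succ, (Fin.succ_ne_zero j).symm]
  | succ i => induction j using Fin.cases with
    | zero => simp [blkM_succ_zero]
    | succ j =>
      rw [blkM_succ_succ, diagonal_apply]
      have e : (i.succ = (1 : Fin (m + 2))) ↔ i = 0 := by
        rw [← Fin.succ_zero_eq_one, Fin.succ_inj]
      simp only [Function.update_apply, Fin.succ_inj, e, Pi.one_apply]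

theorem blk_egl {i j : Fin (m + 1)} (h : i ≠ j) (c : F) :
    blk (egl h c) = egl (show i.succ ≠ j.succ from fun e => h (Fin.succ_injective _ e)) c := by
  apply Units.ext
  rw [blk_coe, egl_coe, egl_coe]
  ext a b
  simp only [Matrix.transvection, Matrix.add_apply, single_apply, one_apply]
  induction a using Fin.cases with
  | zero => induction b using Fin.cases with
    | zero => simp [blkM_zero_zero, Fin.succ_ne_zero]
    | succ b => simp [blkM_zero_succ, Fin.succ_ne_zero, (Fin.succ_ne_zero b).symm]
  | succ a => induction b using Fin.cases with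
    | zero => simp [blkM_succ_zero, Fin.succ_ne_zero]
    | succ b => simp [blkM_succ_succ, Matrix.transvection, single_apply, one_apply]

theorem blk_rot : blk (pgl (finRotate (m + 1)) : GL (Fin (m + 1)) F) = pgl (cyc m) := by
  apply Units.ext
  refine Matrix.ext_of_mulVec_single fun b => ?_
  show ((blk (pgl (finRotate (m + 1))) : GL (Fin (m + 2)) F) : Matrix (Fin (m + 2)) (Fin (m + 2)) F) *ᵥ bv b = _
  rw [pgl_bv, blk_coe]
  funext a
  rw [Matrix.mulVec_single_one]
  show blkM _ a b = bv (cyc m b) a
  have key : ∀ x y : Fin (m + 1), ((pgl (finRotate (m + 1)) : GL (Fin (m + 1)) F) : Matrix _ _ F) x y =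
      if x = y + 1 then 1 else 0 := fun x y => by
    have := congrFun (pgl_bv (F := F) (finRotate (m + 1)) y) x
    rw [Matrix.mulVec_single_one, finRotate_succ_apply] at this
    simpa [Pi.single_apply] using this
  induction b using Fin.cases with
  | zero => induction a using Fin.cases with
    | zero => simp [blkM_zero_zero, cyc_zero]
    | succ a => simp [blkM_succ_zero, cyc_zero]
  | succ b => induction a using Fin.cases with
    | zero => simp [blkM_zero_succ, cyc_succ]
    | succ a => simp [blkM_succ_succ, cyc_succ, key, Pi.single_apply]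

variable {H : Subgroup (GL (Fin (m + 2)) F)}

/-- The generators of the stabiliser of the decomposition give all of it. -/
theorem blk_mem (hC : pgl (cyc m) ∈ H) (hD : ∀ d, dgl 1 d ∈ H)
    (hX : ∀ (h : (1 : Fin (m + 2)) ≠ 2) (c : F), 1 ≤ m → egl h c ∈ H) (A : GL (Fin (m + 1)) F) : blk A ∈ H := by
  suffices h : H.comap blk = ⊤ from (Subgroup.eq_top_iff' _).mp h A
  refine gl_eq_top 0 (fun d => by rw [Subgroup.mem_comap, blk_dgl]; exact hD d) ?_
  have hrot : ∀ k : ℕ, (pgl (finRotate (m + 1)) : GL (Fin (m + 1)) F) ^ k ∈ H.comap blk := fun k =>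
    pow_mem (by rw [Subgroup.mem_comap, blk_rot]; exact hC) k
  have hrk : ∀ (k : ℕ) (x : Fin (m + 1)), (finRotate (m + 1) ^ k) x = x + (k : Fin (m + 1)) := by
    intro k
    induction k with
    | zero => simp
    | succ k ih => intro x; rw [pow_succ', Equiv.Perm.mul_apply, ih, finRotate_succ_apply, Nat.cast_succ, add_assoc]
  -- adjacent pairs
  have adj : ∀ (i j : Fin (m + 1)), j = i + 1 → ∀ (h : i ≠ j) (c : F), egl h c ∈ H.comap blk := by
    intro i j hj h c
    have hm : 1 ≤ m := by
      rcases Nat.eq_zero_or_pos m with rfl | hm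
      · exact absurd (Fin.ext (by omega)) h
      · exact hm
    have h01 : (0 : Fin (m + 1)) ≠ 1 := by
      intro e; have := congrArg Fin.val e; simp [Fin.val_one', Nat.mod_eq_of_lt (show 1 < m + 1 by omega)] at this
    have base : egl h01 c ∈ H.comap blk := by
      rw [Subgroup.mem_comap, blk_egl]
      have h12 : (1 : Fin (m + 2)) ≠ 2 := by
        intro e; have := congrArg Fin.val e
        simp [Nat.mod_eq_of_lt (show 2 < m + 2 by omega)] at this
      have e1 : (0 : Fin (m + 1)).succ = 1 := Fin.succ_zero_eq_one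
      have e2 : (1 : Fin (m + 1)).succ = 2 := by
        obtain ⟨m', rfl⟩ : ∃ m', m = m' + 1 := ⟨m - 1, by omega⟩
        exact Fin.succ_one_eq_two
      have := hX h12 c hm
      convert this using 2 <;> first | exact e1 | exact e2
    have := mul_mem (mul_mem (hrot i.val) base) (inv_mem (hrot i.val))
    rw [← map_pow, pgl_conj_egl] at this
    convert this using 1
    subst hj
    apply Units.ext
    rw [egl_coe, egl_coe, hrk, hrk, zero_add, Fin.cast_val_eq_self, add_comm 1 i]
  intro i j hij c
  suffices key : ∀ (k : ℕ), k < m → ∀ (i j : Fin (m + 1)), j = i + ((k + 1 : ℕ) : Fin (m + 1)) →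
      ∀ (h : i ≠ j) (c : F), egl h c ∈ H.comap blk by
    have hne : (j - i).val ≠ 0 := fun e => hij (sub_eq_zero.mp (Fin.ext e)).symm
    have hlt := (j - i).isLt
    refine key ((j - i).val - 1) (by omega) i j ?_ hij c
    rw [Nat.sub_add_cancel (by omega), Fin.cast_val_eq_self, add_sub_cancel]
  intro k
  induction k with
  | zero => intro _ i j hj h c; exact adj i j (by simpa using hj) h c
  | succ k ih =>
    intro hk i j hj h c
    set l := i + ((k + 1 : ℕ) : Fin (m + 1)) with hl
    have hcast : ∀ x : ℕ, x ≠ 0 → x < m + 1 → (x : Fin (m + 1)) ≠ 0 := fun x hx hx' e => hx (by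
      have := congrArg Fin.val e
      simpa [Fin.val_natCast, Nat.mod_eq_of_lt hx'] using this)
    have hil : i ≠ l := fun e => hcast (k + 1) (by omega) (by omega) (by
      simpa [hl] using e.symm)
    have hjl : j = l + 1 := by rw [hj, hl, Nat.cast_succ, add_assoc]
    have hlj : l ≠ j := fun e => hcast 1 one_ne_zero (by omega) (by
      rw [hjl] at e; simpa using e.symm)
    have := egl_comm hil hlj h c 1
    rw [mul_one] at this
    rw [← this]
    exact mul_mem (mul_mem (mul_mem (ih (by omega) i l rfl hil _) (adj l j hjl hlj _)) (ih (by omega) i l rfl hil _))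
      (adj l j hjl hlj _)

/-- An element fixing the first vector and covector. -/
theorem exists_blk {A : GL (Fin (m + 2)) F}
    (hc : (A : Matrix (Fin (m + 2)) (Fin (m + 2)) F) *ᵥ bv 0 = bv 0)
    (hr : bv 0 ᵥ* (A : Matrix (Fin (m + 2)) (Fin (m + 2)) F) = bv 0) : ∃ B, A = blk B := by
  have key : ∀ M : Matrix (Fin (m + 2)) (Fin (m + 2)) F, M *ᵥ bv 0 = bv 0 → bv 0 ᵥ* M = bv 0 →
      M = blkM (M.submatrix Fin.succ Fin.succ) := by
    intro M h1 h2
    ext i j
    induction i using Fin.cases with
    | zero =>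
      have := congrFun h2 j
      rw [Matrix.single_one_vecMul] at this
      induction j using Fin.cases with
      | zero => simpa [blkM_zero_zero] using this
      | succ j => simpa [blkM_zero_succ] using this
    | succ i => induction j using Fin.cases with
      | zero =>
        have := congrFun h1 i.succ
        rw [Matrix.mulVec_single_one] at this
        simpa [blkM_succ_zero] using this
      | succ j => rfl
  have hc' : ((A⁻¹ : GL (Fin (m + 2)) F) : Matrix (Fin (m + 2)) (Fin (m + 2)) F) *ᵥ bv 0 = bv 0 := by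
    conv_lhs => rw [← hc, mulVec_mulVec, ← Units.val_mul, inv_mul_cancel, Units.val_one, one_mulVec]
  have hr' : bv 0 ᵥ* ((A⁻¹ : GL (Fin (m + 2)) F) : Matrix (Fin (m + 2)) (Fin (m + 2)) F) = bv 0 := by
    conv_lhs => rw [← hr, vecMul_vecMul, ← Units.val_mul, mul_inv_cancel, Units.val_one, vecMul_one]
  have eA := key _ hc hr
  have eA' := key _ hc' hr'
  have inj : Function.Injective (blkM (F := F) (m := m)) := fun X Y h => by
    ext i j; exact congrFun (congrFun h i.succ) j.succ
  refine ⟨⟨(A : Matrix (Fin (m + 2)) (Fin (m + 2)) F).submatrix Fin.succ Fin.succ,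
    ((A⁻¹ : GL (Fin (m + 2)) F) : Matrix (Fin (m + 2)) (Fin (m + 2)) F).submatrix Fin.succ Fin.succ, ?_, ?_⟩,
    Units.ext (by rw [blk_coe]; exact eA)⟩
  · apply inj; rw [blkM_mul, ← eA, ← eA', blkM_one, ← Units.val_mul, mul_inv_cancel, Units.val_one]
  · apply inj; rw [blkM_mul, ← eA, ← eA', blkM_one, ← Units.val_mul, inv_mul_cancel, Units.val_one]

/-- The stabiliser of the first vector. -/
theorem stab_mem (hC : pgl (cyc m) ∈ H) (hD : ∀ d, dgl 1 d ∈ H)
    (hX : ∀ (h : (1 : Fin (m + 2)) ≠ 2) (c : F), 1 ≤ m → egl h c ∈ H)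
    (hY : ∀ (h : (0 : Fin (m + 2)) ≠ 1) (c : F), egl h c ∈ H)
    {A : GL (Fin (m + 2)) F} (hc : (A : Matrix (Fin (m + 2)) (Fin (m + 2)) F) *ᵥ bv 0 = bv 0) : A ∈ H := by
  have hblk : ∀ A : GL (Fin (m + 2)) F, (A : Matrix (Fin (m + 2)) (Fin (m + 2)) F) *ᵥ bv 0 = bv 0 →
      bv 0 ᵥ* (A : Matrix (Fin (m + 2)) (Fin (m + 2)) F) = bv 0 → A ∈ H := fun A h1 h2 => by
    obtain ⟨B, rfl⟩ := exists_blk h1 h2
    exact blk_mem hC hD hX B
  -- the elements of the first row
  have hrow : ∀ (j : Fin (m + 2)) (h : (0 : Fin (m + 2)) ≠ j) (c : F), egl h c ∈ H := by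
    intro j h c
    have h01 : (0 : Fin (m + 2)) ≠ 1 := Fin.zero_ne_one
    have hs : (pgl (Equiv.swap 1 j) : GL (Fin (m + 2)) F) ∈ H := by
      refine hblk _ (by rw [pgl_bv, Equiv.swap_apply_of_ne_of_ne h01 h]) ?_
      rw [← mulVec_transpose, pgl_transpose, pgl_bv, Equiv.swap_inv, Equiv.swap_apply_of_ne_of_ne h01 h]
    have := mul_mem (mul_mem hs (hY h01 c)) (inv_mem hs)
    rw [pgl_conj_egl] at this
    convert this using 1
    apply Units.ext
    rw [egl_coe, egl_coe, Equiv.swap_apply_of_ne_of_ne h01 h, Equiv.swap_apply_left]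
  have hrk : ∀ (s : Finset (Fin (m + 2))) (w : Fin (m + 2) → F), (∀ i, i ∉ s → w i = 0) →
      ∀ h : w ⬝ᵥ bv 0 = 0, rk1 (bv 0) w h ∈ H := by
    intro s
    induction s using Finset.induction_on with
    | empty =>
      intro w hw h
      have hw0 : w = 0 := funext fun i => hw i (by simp)
      have : rk1 (bv 0) w h = 1 := Units.ext (by rw [rk1_coe, hw0, vecMulVec_zero, add_zero, Units.val_one])
      rw [this]; exact one_mem _
    | @insert j t hj ih =>
      intro w hw h
      by_cases hj0 : j = 0
      · refine ih w (fun i hi => ?_) h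
        by_cases e : i = j
        · rw [e, hj0]; simpa using h
        · exact hw i (by simp [e, hi])
      · have h1 : (Function.update w j 0) ⬝ᵥ bv 0 = 0 := by
          simpa [Function.update_of_ne (Ne.symm hj0)] using h
        have h2 : (Pi.single j (w j) : Fin (m + 2) → F) ⬝ᵥ bv 0 = 0 := by simp [Ne.symm hj0]
        have e := rk1_mul_right (bv 0) (Function.update w j 0) (Pi.single j (w j)) h1 h2
        have hsum : Function.update w j 0 + Pi.single j (w j) = w := by
          funext i; by_cases hi : i = j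
          · subst hi; simp
          · simp [hi]
        have e2 : rk1 (bv 0) (Pi.single j (w j)) h2 = egl (Ne.symm hj0) (w j) := by
          apply Units.ext
          rw [rk1_coe, egl_coe, Matrix.transvection]
          congr 1
          ext a b
          simp [vecMulVec_apply, Pi.single_apply, Matrix.single_apply, eq_comm, ite_and]
          split_ifs <;> rfl
        simp only [hsum] at e
        rw [← e, e2]
        refine mul_mem (ih _ (fun i hi => ?_) h1) (hrow j _ _)
        by_cases e : i = j
        · subst e; simp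
        · rw [Function.update_of_ne e]; exact hw i (by simp [e, hi])
  set A' : Matrix (Fin (m + 2)) (Fin (m + 2)) F :=
    ((A⁻¹ : GL (Fin (m + 2)) F) : Matrix (Fin (m + 2)) (Fin (m + 2)) F) with hA'
  have hc' : A' *ᵥ bv 0 = bv 0 := by
    conv_lhs => rw [← hc, mulVec_mulVec, ← Units.val_mul, inv_mul_cancel, Units.val_one, one_mulVec]
  set r := bv 0 ᵥ* (A : Matrix (Fin (m + 2)) (Fin (m + 2)) F) with hrdef
  set w := (r - bv 0) ᵥ* A' with hwdef
  have hw : w ⬝ᵥ bv 0 = 0 := by
    rw [hwdef, ← dotProduct_mulVec, hc', sub_dotProduct, hrdef, ← dotProduct_mulVec, hc, sub_self]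
  have hA : A = rk1 (bv 0) w hw * ((rk1 (bv 0) w hw)⁻¹ * A) := by rw [mul_inv_cancel_left]
  rw [hA]
  refine mul_mem (hrk Finset.univ w (by simp) hw) (hblk _ ?_ ?_)
  · rw [Units.val_mul, ← mulVec_mulVec, hc]
    show (1 - vecMulVec (bv 0) w) *ᵥ bv 0 = bv 0
    rw [sub_mulVec, one_mulVec, vecMulVec_mulVec, hw]
    simp
  · rw [Units.val_mul, ← vecMul_vecMul]
    show (bv 0 ᵥ* (1 - vecMulVec (bv 0) w)) ᵥ* _ = bv 0
    rw [Matrix.vecMul_sub, vecMul_one, vecMul_vecMulVec, single_one_dotProduct, show bv (0 : Fin (m + 2)) 0 = (1 : F) from Pi.single_eq_same _ _, one_smul,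
      sub_vecMul, ← hrdef, hwdef, vecMul_vecMul, ← Units.val_mul, inv_mul_cancel, Units.val_one, vecMul_one,
      sub_sub_cancel]

end Cfsg.Agent.KSG55.Sp
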